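import Groth.Agent.Lib.FSecDual7.Main
import Groth.Agent.Lib.DualRing.CanonStalk
import Groth.Agent.Lib.GenT7.GenDepth
import Groth.Agent.Lib.TorsionFree.Basic
import Groth.Agent.S0377

/-!
# A torsion-free module over `A ⧸ p` satisfying the depth and dimension condition
-/

set_option autoImplicit false
set_option linter.style.haveILetI false
set_option linter.unusedSectionVars false

universe u

open CategoryTheory AlgebraicGeometry Opposite TopologicalSpace Formal2 GrothLib.DualRing

attribute [local instance] HasDerivedCategory.standard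

noncomputable section

namespace GrothLib.FSecDual7

variable {A : Type u} [CommRing A] [IsNoetherianRing A] {ω : Dual.D A} (hω : Dual.IsDualizing A ω)
include hω

/-- The dimension between two primes is the difference of their degrees. -/
theorem dimBetween_eq_deg {p q : PrimeSpectrum A} (h : p ≤ q) :
    Formal2.dimBetween A p.asIdeal q.asIdeal = (((degS hω q - degS hω p).toNat : ℕ) : WithBot ℕ∞) := by
  rw [GenT7.Gen.dimBetween_eq h]
  refine congrArg (fun z : ℕ∞ => (z : WithBot ℕ∞)) (le_antisymm (Order.height_le fun l hl => ?_) ?_)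
  · have h1 := LTSeries.head_add_length_le_int (l.map (fun x : Set.Ici p => degS hω x.1)
      fun x y hxy => degS_strictMono hω hxy)
    rw [LTSeries.head_map, LTSeries.last_map, hl] at h1
    have h2 : degS hω p ≤ degS hω l.head.1 := (degS_strictMono hω).monotone l.head.2
    change degS hω l.head.1 + (l.length : ℤ) ≤ degS hω q at h1
    exact Nat.cast_le.2 (by omega)
  · suffices key : ∀ (n : ℕ) (x : PrimeSpectrum A), x ≤ q → (degS hω q - degS hω x).toNat = n →
        ∃ l : LTSeries (PrimeSpectrum A), l.head = x ∧ l.last = q ∧ l.length = n by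
      obtain ⟨l, hl, hl', hn⟩ := key _ p h rfl
      let l' : LTSeries (Set.Ici p) := LTSeries.mk l.length (fun i => ⟨l i, by
        show p ≤ l i
        rw [← hl]; exact l.head_le i⟩) fun i j hij => l.strictMono hij
      rw [← hn]
      exact Order.length_le_height (p := l') (le_of_eq (Subtype.ext (by exact hl')))
    intro n
    induction n using Nat.strong_induction_on with
    | _ n ih =>
      intro x hx hn
      rcases hx.eq_or_lt with rfl | hlt
      · exact ⟨RelSeries.singleton _ x, rfl, rfl, by simp at hn; simp [← hn]⟩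
      · obtain ⟨z, hxz, hz⟩ := exists_covBy_le hω hlt
        have h1 := degS_covBy hω hxz
        have h2 := (degS_strictMono hω).monotone hz
        obtain ⟨l, hl, hl', hln⟩ := ih _ (by omega) z hz rfl
        exact ⟨l.cons x (hl ▸ hxz.1 : x < l.head), by simp, by simpa using hl',
          by simp only [RelSeries.cons_length, hln]; omega⟩

/-- Over a domain with a dualizing complex there is a finite torsion-free nonzero module satisfying `(S₂)`. -/
theorem exists_s2_module [IsDomain A] :
    ∃ (K : Type u) (_ : AddCommGroup K) (_ : Module A K) (_ : Module.Finite A K), Module.IsTorsionFree A K ∧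
      Nontrivial K ∧ ∀ P : PrimeSpectrum A, P.asIdeal ≠ ⊥ →
        (1 : ℕ∞) ≤ LocCoh.depth (Localization.AtPrime P.asIdeal) (LocalizedModule P.asIdeal.primeCompl K) ∧
          ∀ P' : PrimeSpectrum A, P'.asIdeal ≠ ⊥ → P' < P →
            (2 : ℕ∞) ≤ LocCoh.depth (Localization.AtPrime P.asIdeal) (LocalizedModule P.asIdeal.primeCompl K) := by
  haveI : (⊥ : Ideal A).IsPrime := Ideal.isPrime_bot
  let n := DualRing.deg hω (⊥ : Ideal A)
  have hv : ∀ i, i < n → Subsingleton (Dual.HD A ω i) := fun i hi => by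
    rcases subsingleton_or_nontrivial (Dual.HD A ω i) with h | h
    · exact h
    · exact absurd (deg_bot_le_of_nontrivial hω h) (not_le.2 hi)
  let K := Dual.HD A ω n
  have h0 := bot_mem_support_deg_bot hω
  haveI : Module.Finite A K := hω.finite_cohomology n
  haveI hK : Nontrivial K := by
    by_contra hc
    rw [not_nontrivial_iff_subsingleton] at hc
    rw [Module.support_eq_empty] at h0
    exact h0
  refine ⟨K, inferInstance, inferInstance, inferInstance, isTorsionFree_bottom hω n hv h0, hK, fun P hP => ?_⟩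
  have hall : ∀ x : PrimeSpectrum A, x ∈ Module.support A K := fun x =>
    Module.mem_support_mono (show (⟨⊥, Ideal.isPrime_bot⟩ : PrimeSpectrum A) ≤ x from bot_le (a := x.asIdeal)) h0
  have hs := skCond_two_bottom hω n hv P.asIdeal
  rw [SkExt.SkCond, SkLift5.supportDim_localized_eq_height P.asIdeal (hall P)] at hs
  have hbot : (⟨⊥, Ideal.isPrime_bot⟩ : PrimeSpectrum A) < P :=
    lt_of_le_of_ne (bot_le (a := P.asIdeal)) fun h => hP (congrArg PrimeSpectrum.asIdeal h).symm
  let o : Module.support A K := ⟨_, h0⟩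
  let x : Module.support A K := ⟨P, hall P⟩
  have h1 : (1 : ℕ∞) ≤ Order.height x :=
    le_trans le_add_self (Order.height_add_one_le (show o < x from hbot))
  refine ⟨?_, fun P' hP' hlt => ?_⟩
  · exact WithBot.coe_le_coe.1 (le_trans (le_min (by exact WithBot.coe_le_coe.2 (by norm_num))
      (WithBot.coe_le_coe.2 h1)) hs)
  · have hbot' : (⟨⊥, Ideal.isPrime_bot⟩ : PrimeSpectrum A) < P' :=
      lt_of_le_of_ne (bot_le (a := P'.asIdeal)) fun h => hP' (congrArg PrimeSpectrum.asIdeal h).symm
    let x' : Module.support A K := ⟨P', hall P'⟩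
    have h2 : (2 : ℕ∞) ≤ Order.height x := by
      refine le_trans ?_ (Order.height_add_one_le (show x' < x from hlt))
      rw [show (2 : ℕ∞) = 1 + 1 from rfl]
      exact add_le_add_left (le_trans le_add_self (Order.height_add_one_le (show o < x' from hbot'))) 1
    exact WithBot.coe_le_coe.1 (le_trans (le_min (le_refl _) (WithBot.coe_le_coe.2 h2)) hs)

omit hω

/-- A module on `V(p)` containing every finite torsion-free `A ⧸ p`-module up to powers and satisfying the
depth and dimension condition. -/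
theorem exists_model (hω : ∃ ω : Dual.D A, Dual.IsDualizing A ω) (p : Ideal A) [p.IsPrime] (d : ℕ) :
    ∃ (K : Type u) (_ : AddCommGroup K) (_ : Module A K) (_ : Module.Finite A K),
      (∀ (N : Type u) [AddCommGroup N] [Module A N] [Module.Finite A N], (∀ a ∈ p, ∀ x : N, a • x = 0) →
        (∀ a, a ∉ p → IsSMulRegular N a) → ∃ (r : ℕ) (f : N →ₗ[A] (Fin r → K)), Function.Injective f) ∧
      ∀ q : PrimeSpectrum A, (p ≤ q.asIdeal → ((d + 1 : ℕ) : WithBot ℕ∞) < Formal2.dimBetween A p q.asIdeal) →
        Cond q d K := by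
  obtain ⟨ω, hω⟩ := hω
  obtain ⟨ω', hω'⟩ := Groth.Agent.S0377.result A ω hω (A ⧸ p)
  obtain ⟨K, _, _, _, htf, hK, hdep⟩ := exists_s2_module hω'
  letI : Module A K := Module.compHom K (algebraMap A (A ⧸ p))
  haveI : IsScalarTower A (A ⧸ p) K := IsScalarTower.of_algebraMap_smul fun _ _ => rfl
  haveI : Module.Finite A K := Module.Finite.trans (A ⧸ p) K
  refine ⟨K, inferInstance, inferInstance, inferInstance, fun N _ _ _ hkill hreg => ?_, fun q hdim p' hp'q hp' => ?_⟩
  · have htors : Module.IsTorsionBySet A N p := fun x a => hkill a.1 a.2 x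
    letI := htors.module
    haveI : IsScalarTower A (A ⧸ p) N := htors.isScalarTower
    haveI : Module.Finite (A ⧸ p) N := Module.Finite.of_restrictScalars_finite A _ N
    haveI : Module.IsTorsionFree (A ⧸ p) N := ⟨fun r hr => by
      obtain ⟨a, rfl⟩ := Ideal.Quotient.mk_surjective r
      exact fun x y hxy => hreg a (fun ha => hr.ne_zero (Ideal.Quotient.eq_zero_iff_mem.2 ha))
        (by simpa [Module.IsTorsionBySet.mk_smul] using hxy)⟩
    obtain ⟨r, f, hf⟩ := exists_injective_pi_of_isTorsionFree (A ⧸ p) N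
    obtain ⟨k, hk⟩ := exists_ne (0 : K)
    let g : (Fin r → A ⧸ p) →ₗ[A ⧸ p] (Fin r → K) :=
      LinearMap.pi fun i => LinearMap.toSpanSingleton (A ⧸ p) K k ∘ₗ LinearMap.proj i
    have hg : Function.Injective g := fun a b hab => funext fun i =>
      smul_left_injective (A ⧸ p) hk (congrFun hab i)
    exact ⟨r, (g ∘ₗ f).restrictScalars A, hg.comp hf⟩
  have hple : p ≤ p'.asIdeal := fun a ha => by
    have := Module.annihilator_le_of_mem_support hp'
    exact this (Module.mem_annihilator.2 fun k => by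
      rw [← algebraMap_smul (A ⧸ p) a k, Ideal.Quotient.algebraMap_eq, Ideal.Quotient.eq_zero_iff_mem.2 ha, zero_smul])
  let p₀ : PrimeSpectrum A := ⟨p, inferInstance⟩
  have hp₀ : p₀ ≤ p' := hple
  have hn := hdim (hple.trans hp'q)
  rw [dimBetween_eq_deg hω (p := p₀) (hp₀.trans hp'q), Nat.cast_lt] at hn
  rw [dimBetween_eq_deg hω hp'q]
  rcases hp₀.eq_or_lt with rfl | hlt
  · right
    calc ((d + 2 : ℕ) : WithBot ℕ∞) ≤ (((degS hω q - degS hω p₀).toNat : ℕ) : WithBot ℕ∞) := Nat.cast_le.2 hn
      _ ≤ _ := le_add_of_nonneg_left (WithBot.coe_le_coe.2 zero_le)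
  haveI := Ideal.map_isPrime_of_surjective (f := Ideal.Quotient.mk p) Ideal.Quotient.mk_surjective
    (show RingHom.ker (Ideal.Quotient.mk p) ≤ p'.asIdeal by rw [Ideal.mk_ker]; exact hple)
  let P : PrimeSpectrum (A ⧸ p) := ⟨p'.asIdeal.map (Ideal.Quotient.mk p), inferInstance⟩
  have hP : P.asIdeal.comap (algebraMap A (A ⧸ p)) = p'.asIdeal := by
    show (p'.asIdeal.map (Ideal.Quotient.mk p)).comap (Ideal.Quotient.mk p) = _
    rw [Ideal.comap_map_of_surjective' _ Ideal.Quotient.mk_surjective, Ideal.mk_ker, sup_eq_left]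
    exact hple
  have hne : ∀ Q : PrimeSpectrum (A ⧸ p), p₀ < PrimeSpectrum.comap (algebraMap A (A ⧸ p)) Q → Q.asIdeal ≠ ⊥ := by
    intro Q hQ h
    refine hQ.ne (PrimeSpectrum.ext ?_)
    show p = Q.asIdeal.comap (algebraMap A (A ⧸ p))
    rw [h, ← RingHom.ker_eq_comap_bot, Ideal.Quotient.algebraMap_eq, Ideal.mk_ker]
  have hcomap : PrimeSpectrum.comap (algebraMap A (A ⧸ p)) P = p' := PrimeSpectrum.ext hP
  have hdepth : LocCoh.depth (Localization.AtPrime p'.asIdeal) (LocalizedModule p'.asIdeal.primeCompl K) =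
      LocCoh.depth (Localization.AtPrime P.asIdeal) (LocalizedModule P.asIdeal.primeCompl K) :=
    Faltings.depth_localization_comap p'.asIdeal P.asIdeal hP LinearMap.id
      (fun z => by
        obtain ⟨r, rfl⟩ := Ideal.Quotient.mk_surjective z
        exact ⟨1, r, p'.asIdeal.one_notMem, one_smul _ _⟩)
      (fun z => ⟨1, z, p'.asIdeal.one_notMem, one_smul _ _⟩)
      (fun m hm => ⟨1, p'.asIdeal.one_notMem, by rw [one_smul]; exact hm⟩)
  obtain ⟨h1, h2⟩ := hdep P (hne P (hcomap ▸ hlt))
  by_cases hcov : p₀ ⋖ p'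
  · right
    have hc := degS_covBy hω hcov
    rw [hdepth]
    calc ((d + 2 : ℕ) : WithBot ℕ∞) ≤ ((1 + (degS hω q - degS hω p').toNat : ℕ) : WithBot ℕ∞) :=
          Nat.cast_le.2 (by omega)
      _ ≤ _ := by
        rw [Nat.cast_add]
        exact add_le_add_left (WithBot.coe_le_coe.2 h1) _
  · left
    obtain ⟨r, hr, hr'⟩ := exists_lt_lt_of_not_covBy hlt hcov
    haveI := Ideal.map_isPrime_of_surjective (f := Ideal.Quotient.mk p) Ideal.Quotient.mk_surjective
      (show RingHom.ker (Ideal.Quotient.mk p) ≤ r.asIdeal by rw [Ideal.mk_ker]; exact hr.le)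
    let R : PrimeSpectrum (A ⧸ p) := ⟨r.asIdeal.map (Ideal.Quotient.mk p), inferInstance⟩
    have hR : PrimeSpectrum.comap (algebraMap A (A ⧸ p)) R = r := PrimeSpectrum.ext (by
      show (r.asIdeal.map (Ideal.Quotient.mk p)).comap (Ideal.Quotient.mk p) = _
      rw [Ideal.comap_map_of_surjective' _ Ideal.Quotient.mk_surjective, Ideal.mk_ker, sup_eq_left]
      exact hr.le)
    rw [hdepth]
    refine h2 R (hne R (hR ▸ hr)) (lt_of_le_of_ne (Ideal.map_mono hr'.le) fun h => hr'.ne ?_)
    rw [← hR, ← hcomap, h]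

end GrothLib.FSecDual7
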