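import Groth.Agent.Lib.FSecDual7.Bridge
import Groth.Agent.Lib.AraDim
import Groth.Agent.Lib.DCxRing.DComplete.Ideal
import Groth.Agent.Lib.DCxRing.KoszulCone
import Mathlib.RingTheory.Ideal.Quotient.Operations

/-!
# Completions of modules killed by an ideal of small coheight
-/

set_option autoImplicit false
set_option linter.style.haveILetI false
universe u

open CategoryTheory CategoryTheory.Limits GrothLib.DCpl

attribute [local instance] HasDerivedCategory.standard

namespace GrothLib.FSecDual7

variable {A : Type u} [CommRing A] [IsNoetherianRing A] [IsLocalRing A]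

/-- Up to radical modulo `K`, `I` needs no more generators than the dimension of `A/K`. -/
theorem exists_small_generators (I K : Ideal A) (hI : I ≤ IsLocalRing.maximalIdeal A) (c : ℕ)
    (hc : ringKrullDim (A ⧸ K) ≤ (c : WithBot ℕ∞)) :
    ∃ t : Finset A, t.card ≤ c ∧ (t : Set A) ⊆ I ∧ I ≤ (Ideal.span (t : Set A) ⊔ K).radical := by
  classical
  let π := Ideal.Quotient.mk K
  obtain ⟨g, hgI, hg⟩ := GrothLib.AraDim.exists_elements (I.map π) c
  choose f hfI hfg using fun i => (Ideal.mem_map_iff_of_surjective π Ideal.Quotient.mk_surjective).1 (hgI i)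
  refine ⟨Finset.univ.image f, (Finset.card_image_le).trans (by simp), fun x hx => ?_, ?_⟩
  · obtain ⟨i, -, rfl⟩ := Finset.mem_image.1 hx
    exact hfI i
  · rw [Ideal.radical_eq_sInf]
    refine le_sInf fun p hp => ?_
    haveI := hp.2
    have hKp : K ≤ p := le_sup_right.trans hp.1
    by_contra hIp
    let q : Ideal (A ⧸ K) := p.map π
    haveI hq : q.IsPrime := Ideal.map_isPrime_of_surjective Ideal.Quotient.mk_surjective (by
      rw [Ideal.mk_ker]; exact hKp)
    have hqp : q.comap π = p := by
      rw [Ideal.comap_map_of_surjective π Ideal.Quotient.mk_surjective,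
        show Ideal.comap π ⊥ = K from Ideal.mk_ker, sup_eq_left.2 hKp]
    have hqI : ¬ I.map π ≤ q := fun h => hIp (hqp ▸ Ideal.map_le_iff_le_comap.1 h)
    have hh := hg q hq (Ideal.span_le.2 (by
      rintro _ ⟨i, rfl⟩
      rw [← hfg i]
      exact Ideal.mem_map_of_mem π (hp.1 (Ideal.mem_sup_left (Ideal.subset_span (by simp)))))) hqI
    haveI : Nontrivial (A ⧸ K) := Ideal.Quotient.nontrivial_iff.2 (ne_top_of_le_ne_top hp.2.ne_top hKp)
    haveI : IsLocalRing (A ⧸ K) := IsLocalRing.of_surjective' π Ideal.Quotient.mk_surjective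
    have hq' : q < IsLocalRing.maximalIdeal (A ⧸ K) := by
      refine lt_of_le_of_ne (IsLocalRing.le_maximalIdeal hq.ne_top) fun h => hqI ?_
      rw [h, Ideal.map_le_iff_le_comap]
      refine hI.trans (le_of_eq ?_)
      exact (IsLocalRing.eq_maximalIdeal (Ideal.comap_isMaximal_of_surjective π
        Ideal.Quotient.mk_surjective)).symm
    have h1 := Ideal.height_add_one_le_of_lt_of_isPrime hq'
    have h2 : ((IsLocalRing.maximalIdeal (A ⧸ K)).height : WithBot ℕ∞) ≤ (c : WithBot ℕ∞) := by
      rw [IsLocalRing.maximalIdeal_height_eq_ringKrullDim]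
      exact hc
    have h3 : ((c : ℕ∞) + 1 : ℕ∞) ≤ (c : ℕ∞) :=
      le_trans (le_trans (add_le_add hh le_rfl) h1) (WithBot.coe_le_coe.1 h2)
    exact absurd ((ENat.lt_add_one_iff (ENat.natCast_ne_top c)).2 le_rfl) (not_lt.2 h3)

omit [IsNoetherianRing A] [IsLocalRing A] in
theorem dcMod_of_smul_eq_zero {M : Type u} [AddCommGroup M] [Module A M] {k : A} (hk : ∀ x : M, k • x = 0) :
    DCMod k M := by
  rw [DCMod, telMap_eq]
  have h : (k • shiftSeq A M : Module.End A (ℕ → M)) = 0 :=
    LinearMap.ext fun x => funext fun j => hk _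
  rw [h, sub_zero]
  exact Function.bijective_id

/-- A module killed by an ideal of coheight `c` has no maps from the Čech complex below degree `-c`. -/
theorem van_inD_of_killed (I : Ideal A) (hI : I ≤ IsLocalRing.maximalIdeal A) (fs : List A)
    (hfs : Ideal.span {x : A | x ∈ fs} = I) (H : Type u) [AddCommGroup H] [Module A H]
    (K : Ideal A) (hK : ∀ k ∈ K, ∀ x : H, k • x = 0) (c : ℕ) (hc : ringKrullDim (A ⧸ K) ≤ (c : WithBot ℕ∞))
    (s : ℤ) (hs : s < -(c : ℤ)) : Van fs (Dual.inD A H) s := by
  classical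
  haveI : DRing.HasDerivedCompletion I := hasDerivedCompletion I (IsNoetherian.noetherian I)
  obtain ⟨t, htc, htI, htr⟩ := exists_small_generators I K hI c hc
  let I' : Ideal A := Ideal.span (t : Set A)
  haveI : DRing.HasDerivedCompletion I' := hasDerivedCompletion I' ⟨t, rfl⟩
  obtain ⟨L, η, hL, hU, hB⟩ := exists_completion t (Dual.inD A H)
  have hk : ∀ k ∈ K, ∀ n : ℤ, DCMod k (Dual.HD A L n) := by
    intro k hkK n
    have hη : η ≫ (k • 𝟙 L) = η ≫ (0 : L ⟶ L) := by
      rw [Linear.comp_smul, Category.comp_id, comp_zero]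
      have h0 : k • 𝟙 (Dual.inD A H) = 0 := by
        have h1 : k • 𝟙 (ModuleCat.of A H) = 0 := ModuleCat.hom_ext (LinearMap.ext fun x => hK k hkK x)
        rw [← CategoryTheory.Functor.map_id, ← Functor.map_smul, h1, Functor.map_zero]
      rw [← Category.id_comp η, ← Linear.smul_comp, h0, zero_comp]
    have h2 : k • 𝟙 L = 0 := (hU L hL).1 hη
    refine dcMod_of_smul_eq_zero fun x => ?_
    let F := DerivedCategory.homologyFunctor (ModuleCat.{u} A) n
    have h3 : F.map (k • 𝟙 L) = k • 𝟙 (F.obj L) := DR.homology_map_smul_id k L n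
    rw [h2, Functor.map_zero] at h3
    exact (ConcreteCategory.congr_hom h3 x).symm
  have hLI : ∀ g ∈ I, DCObj g L := fun g hg n => by
    have hle : I' ⊔ K ≤ dcIdeal A (Dual.HD A L n) := sup_le
      (Ideal.span_le.2 fun g hg => mem_dcIdeal.2 (hL g hg n)) fun k hkK => mem_dcIdeal.2 (hk k hkK n)
    have h4 := Ideal.radical_mono hle (htr hg)
    rw [Ideal.IsRadical.radical (dcIdeal_isRadical (A := A) (M := Dual.HD A L n))] at h4
    exact mem_dcIdeal.1 h4
  have hfs' : Ideal.span ((fs.toFinset : Finset A) : Set A) = I := by rw [List.coe_toFinset, ← hfs]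
  obtain ⟨e, -⟩ := exists_iso_completion I hfs' η (fun g hg => hLI g (hfs' ▸ Ideal.subset_span hg))
    (fun E hE => hU E fun g hg => by
      have hEI := isDerivedComplete_of_span hfs' E hE
      exact fun n => (isDerivedComplete_iff I E).1 hEI g (htI hg) n)
  refine (subsingleton_completion_iff I fs hfs (Dual.inD A H) s).1 ?_
  haveI := hB s fun k hk' => DR.subsingleton_HD_inD H _ (by omega)
  exact (RGamma.hdIso e s).toEquiv.subsingleton



end GrothLib.FSecDual7
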