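import Groth.Agent.Lib.DCxRHom.Cech
import Groth.Agent.Lib.RGamma.CechHat
import Groth.Agent.Lib.RGamma.HDI
import Groth.Agent.Lib.DualRing.Bottom

/-!
# Vanishing of the derived completion as vanishing of maps out of the Čech complex of the ring
-/

set_option autoImplicit false
set_option linter.style.haveILetI false
universe u

open CategoryTheory CategoryTheory.Limits HomologicalComplex CochainComplex CochainComplex.HomComplex Pretriangulated

attribute [local instance] HasDerivedCategory.standard

namespace GrothLib.FSecDual7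

variable {A : Type u} [CommRing A]

/-- The Čech complex of the ring in the derived category. -/
noncomputable abbrev cechD (fs : List A) : Dual.D A :=
  DRing.toD (DerCA.extCech (ModuleCat.of A A) fs)

/-- No maps from the Čech complex of the ring in a given degree. -/
def Van (fs : List A) (K : Dual.D A) (j : ℤ) : Prop :=
  ∀ ξ : cechD fs ⟶ K⟦j⟧, ξ = 0

theorem Van.of_iso {fs : List A} {K L : Dual.D A} (e : K ≅ L) {j : ℤ} (h : Van fs K j) : Van fs L j := by
  intro ξ
  refine (cancel_mono ((CategoryTheory.shiftFunctor (Dual.D A) j).map e.inv)).1 ?_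
  rw [zero_comp]
  exact h _

/-- Cocycles of the complex of homs and maps in the derived category. -/
theorem subsingleton_homology_iff (P C : DRing.Cx A) [C.IsKInjective] (j : ℤ) :
    Subsingleton ((DRing.homCx P C).homology j) ↔
      ∀ ξ : DRing.toD P ⟶ (DRing.toD C)⟦j⟧, ξ = 0 := by
  let eC := ((DerivedCategory.Q (C := ModuleCat.{u} A)).commShiftIso j).app C
  let qI := DerivedCategory.quotientCompQhIso (ModuleCat.{u} A)
  have hz : ∀ z : Cocycle P C j, (z ∈ coboundaries P C j ↔
      DerivedCategory.Q.map (Cocycle.equivHomShift.symm z) = 0) := by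
    intro z
    rw [← CohomologyClass.toHom_mk_eq_zero_iff z, CohomologyClass.toHom_mk]
    constructor
    · intro h0
      rw [← cancel_epi (qI.hom.app P), ← qI.hom.naturality, Functor.comp_map, h0, Functor.map_zero, zero_comp,
        comp_zero]
    · intro h0
      obtain ⟨h⟩ := GrothLib.RGamma.homotopy_of_Q_eq (h0.trans (Functor.map_zero _ _ _).symm)
      exact (HomotopyCategory.eq_of_homotopy _ _ h).trans (Functor.map_zero _ _ _)
  rw [DR.subsingleton_iff_isZero, ← exactAt_iff_isZero_homology,
    DR.element_exact _ (j - 1) j (j + 1) (by omega) rfl]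
  constructor
  · intro hex ξ
    obtain ⟨χ, hχ⟩ := DR.exists_lift_inj (ξ ≫ eC.inv)
    obtain ⟨z, rfl⟩ := Cocycle.equivHomShift.symm.surjective χ
    obtain ⟨b, hb⟩ := hex z.1 (z.δ_eq_zero (j + 1))
    have h0 := (hz z).1 ((mem_coboundaries_iff _ (j - 1) (by omega)).2 ⟨b, hb⟩)
    rw [← cancel_mono eC.inv, ← hχ, h0, zero_comp]
  · intro h x hx
    let z : Cocycle P C j := Cocycle.mk x (j + 1) rfl hx
    have h0 : DerivedCategory.Q.map (Cocycle.equivHomShift.symm z) = 0 :=
      (cancel_mono eC.hom).1 ((h _).trans zero_comp.symm)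
    exact (mem_coboundaries_iff _ (j - 1) (by omega)).1 ((hz z).2 h0)

/-- The derived completion in a degree and maps out of the Čech complex. -/
theorem subsingleton_completion_iff (I : Ideal A) (fs : List A) (hfs : Ideal.span {x : A | x ∈ fs} = I)
    [DRing.HasDerivedCompletion I] (K : Dual.D A) (j : ℤ) :
    Subsingleton (Dual.HD A ((DRing.derivedCompletion I).obj K).obj j) ↔ Van fs K j := by
  classical
  have hs : Ideal.span ((fs.toFinset : Finset A) : Set A) = I := by rw [List.coe_toFinset, ← hfs]
  obtain ⟨C, hC, ⟨eC⟩⟩ := GrothLib.RH.exists_kInjective_rep K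
  haveI := hC
  obtain ⟨η, hη⟩ := GrothLib.RH.exists_cech_reflection fs C
  obtain ⟨e, -⟩ := GrothLib.DCpl.exists_iso_completion I hs (eC.hom ≫ η)
    (fun g hg => GrothLib.RH.dcObj_homCx_extCech (List.mem_toFinset.1 hg) C)
    (fun E hE => by
      have h := (Iso.homFromEquiv eC.symm).bijective.comp (hη E fun g hg => hE g (List.mem_toFinset.2 hg))
      convert h using 1
      funext ψ
      simp)
  rw [((RGamma.hdIso e j).trans (RGamma.hdEquiv _ j)).toEquiv.subsingleton_congr, subsingleton_homology_iff]
  exact ⟨fun h => Van.of_iso eC.symm h, fun h => Van.of_iso eC h⟩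

/-- Extensions. -/
theorem van_of_triangle {fs : List A} {T : Triangle (Dual.D A)} (hT : T ∈ distTriang (Dual.D A)) {j : ℤ}
    (h₁ : Van fs T.obj₁ j) (h₃ : Van fs T.obj₃ j) : Van fs T.obj₂ j := by
  intro ξ
  have hT' := Triangle.shift_distinguished T hT j
  have h0 : ξ ≫ ((Triangle.shiftFunctor (Dual.D A) j).obj T).mor₂ = 0 := h₃ _
  obtain ⟨y, hy⟩ := Triangle.coyoneda_exact₂ _ hT' ξ h0
  rw [hy, h₁ y]
  exact zero_comp

/-- Orthogonality for the t-structure. -/
theorem van_of_isGE {fs : List A} {d n : ℤ}
    (hP : ∀ i, d < i → Subsingleton (Dual.HD A (cechD fs) i)) {K : Dual.D A}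
    (hK : ∀ i, i < n → Subsingleton (Dual.HD A K i)) {j : ℤ} (hj : d + j < n) : Van fs K j := by
  intro ξ
  haveI : (cechD fs).IsLE d := by
    rw [DerivedCategory.isLE_iff]
    exact fun i hi => (GrothLib.DR.subsingleton_iff_isZero _).1 (hP i hi)
  haveI : K.IsGE n := by
    rw [DerivedCategory.isGE_iff]
    exact fun i hi => (GrothLib.DR.subsingleton_iff_isZero _).1 (hK i hi)
  haveI : (K⟦j⟧).IsGE (n - j) := DerivedCategory.TStructure.t.isGE_shift K n j (n - j) (by omega)
  exact DerivedCategory.TStructure.t.zero ξ d (n - j) (by omega)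

end GrothLib.FSecDual7
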