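import Groth.Agent.Lib.FSecDual7.Reduce

/-!
# Connectedness of the punctured formal neighbourhood
-/

set_option autoImplicit false
set_option linter.style.haveILetI false
set_option linter.unusedSectionVars false

universe u

open CategoryTheory AlgebraicGeometry Opposite TopologicalSpace Formal2 GrothLib.ColimSec7

attribute [local instance] HasDerivedCategory.standard

noncomputable section

namespace GrothLib.FSecDual7

variable {A : Type u} [CommRing A] [IsNoetherianRing A]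

theorem associatedPrimes_reduced_subset : associatedPrimes A (A ⧸ nilradical A) ⊆ minimalPrimes A := by
  intro p hp
  haveI := hp.isPrime
  obtain ⟨-, x, hx⟩ := isAssociatedPrime_iff.1 hp
  obtain ⟨a, rfl⟩ := Submodule.Quotient.mk_surjective _ x
  have ha : a ∉ nilradical A := fun h => by
    refine ‹p.IsPrime›.ne_top (hx.trans ?_)
    rw [(Submodule.Quotient.mk_eq_zero _).2 h]
    exact Submodule.colon_singleton_zero
  rw [nilradical_eq_sInf, Ideal.mem_sInf] at ha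
  push Not at ha
  obtain ⟨P, hP, haP⟩ := ha
  haveI : P.IsPrime := hP
  obtain ⟨P₀, hP₀, hle⟩ := Ideal.exists_minimalPrimes_le (show (⊥ : Ideal A) ≤ P from bot_le)
  haveI := hP₀.isPrime
  have hpP : p ≤ P₀ := fun b hb => by
    have h1 := (Submodule.mem_bot A).1 (Submodule.mem_colon_singleton.1 (hx.le hb))
    rw [← Submodule.Quotient.mk_smul, Submodule.Quotient.mk_eq_zero] at h1
    refine (hP₀.isPrime.mem_or_mem ((nilradical_le_prime P₀) h1)).resolve_right fun h => haP (hle h)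
  exact le_antisymm hpP (hP₀.2 ⟨inferInstance, bot_le⟩ hpP) ▸ hP₀

theorem L_eq_zero_of_not_le (I : Ideal A) {M : Type u} [AddCommGroup M] [Module A M] {q : PrimeSpectrum A}
    (hq : ¬ I ≤ q.asIdeal) (n : ℕ) (c : L q (quotPow A I M n)) : c = 0 := by
  obtain ⟨x, s, hs, hx⟩ := exists_frac q c
  refine smul_cancel q hs ?_
  rw [hx, smul_zero]
  obtain ⟨x, rfl⟩ := Submodule.Quotient.mk_surjective _ x
  obtain ⟨a, ha, haq⟩ := Set.not_subset.1 hq
  exact (IsLocalizedModule.eq_zero_iff q.asIdeal.primeCompl _).2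
    ⟨⟨a ^ (n + 1), fun h => haq (q.isPrime.mem_of_pow_mem _ h)⟩,
      (Submodule.Quotient.mk_eq_zero _).2 (Submodule.smul_mem_smul (Ideal.pow_mem_pow ha _) trivial)⟩

theorem mem_of_le_open {V : (Spec (CommRingCat.of A)).Opens} {p q : PrimeSpectrum A} (h : p ≤ q) (hq : q ∈ V) :
    p ∈ V := ((PrimeSpectrum.le_iff_specializes _ _).1 h).mem_open V.2 hq

/-- **Connectedness.** -/
theorem preconnected_of_dim (I 𝔞 : Ideal A) (hI : I ≤ 𝔞) [IsAdicComplete I A]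
    (hω : ∃ ω : Dual.D A, Dual.IsDualizing A ω) (d : ℕ) (hd : LocCoh.CdLE A I d)
    (h₂ : ∀ p ∈ minimalPrimes A, ¬ I ≤ p →
      ∀ (q : Ideal A) [q.IsPrime], p ≤ q → 𝔞 ≤ q → ((d + 1 : ℕ) : WithBot ℕ∞) < Formal2.dimBetween A p q)
    (h₃ : ∀ V : Set (PrimeSpectrum A), IsOpen V → V.Nonempty →
      PrimeSpectrum.zeroLocus (I : Set A) \ PrimeSpectrum.zeroLocus (𝔞 : Set A) ⊆ V → _root_.IsConnected V) :
    _root_.IsPreconnected (PrimeSpectrum.zeroLocus (I : Set A) \ PrimeSpectrum.zeroLocus (𝔞 : Set A)) := by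
  classical
  intro O₁ O₂ hO₁ hO₂ hcov hne₁ hne₂
  by_contra hc
  have hdisj : ∀ q : PrimeSpectrum A, I ≤ q.asIdeal → ¬ 𝔞 ≤ q.asIdeal → q ∈ O₁ → q ∈ O₂ → False :=
    fun q hIq haq h1 h2 => hc ⟨q, ⟨hIq, haq⟩, h1, h2⟩
  set U := LocCoh.puncturedOpen A 𝔞
  let M : Type u := A ⧸ nilradical A
  let one : M := Submodule.Quotient.mk 1
  let x : ∀ n (q : PrimeSpectrum A), q ∈ U → L q (quotPow A I M n) := fun n q _ =>
    if q ∈ O₁ then ι q _ (quotPowπ A I M n one) else 0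
  have hgen : ∀ {O : Set (PrimeSpectrum A)}, IsOpen O → ∀ {p q : PrimeSpectrum A}, p ≤ q → q ∈ O → p ∈ O :=
    fun hO _ _ h hq => ((PrimeSpectrum.le_iff_specializes _ _).1 h).mem_open hO hq
  have hxc : ∀ n (p q : PrimeSpectrum A) (h : p ≤ q) (hq : q ∈ U) (hp : p ∈ U),
      loc h _ (x n q hq) = x n p hp := by
    intro n p q h hq hp
    by_cases hIp : I ≤ p.asIdeal
    · have hIq : I ≤ q.asIdeal := hIp.trans h
      by_cases hq1 : q ∈ O₁
      · simp only [x, if_pos hq1, if_pos (hgen hO₁ h hq1), loc_ι]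
      · have hq2 : q ∈ O₂ := (hcov ⟨hIq, hq⟩).resolve_left hq1
        have hp1 : p ∉ O₁ := fun h1 => hdisj p hIp hp h1 (hgen hO₂ h hq2)
        simp only [x, if_neg hq1, if_neg hp1, map_zero]
    · rw [L_eq_zero_of_not_le I hIp n (loc h _ _), L_eq_zero_of_not_le I hIp n (x n p hp)]
  have hgenU : ∀ p q : PrimeSpectrum A, p ≤ q → q ∈ U → p ∈ U := fun p q h hq => mem_of_le_open h hq
  choose W hW w hw using fun n => exists_section_of_germs {q : PrimeSpectrum A | q ∈ U} hgenU (x n)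
    fun p q h hq => hxc n p q h hq (hgenU p q h hq)
  let y : ∀ n, S (quotPow A I M n) U := fun n => r _ (fun q hq => hW n q hq : U ≤ W n) (w n)
  have hy : ∀ n q (hq : q ∈ U), germ hq (y n) = x n q hq := fun n q hq => by rw [germ_r]; exact hw n q hq
  have hyc : ∀ n, mp (quotPowTrans A I M n) U (y (n + 1)) = y n := fun n => section_ext fun q hq => by
    rw [germ_mp, hy, hy]
    by_cases hq1 : q ∈ O₁
    · simp only [x, if_pos hq1, lm_ι]
      rfl
    · simp only [x, if_neg hq1, map_zero]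
  obtain ⟨V, hV, s, hs⟩ := surj_of_dim (M := M) 𝔞 hI hω d hd
    (fun p hp _ hIp _ => h₂ p (associatedPrimes_reduced_subset hp) hIp) y hyc
  -- the section is `1` near `O₁` and `0` near `O₂`
  have hval : ∀ n q (hqV : q ∈ V), lm q (quotPowπ A I M n) (germ hqV s) = x n q (hV.1 hqV) := fun n q hqV => by
    rw [← germ_mp, ← hs n, germ_r, hy]
  let U₁ : (Spec (CommRingCat.of A)).Opens := U ⊓ ⟨O₁, hO₁⟩
  let U₂ : (Spec (CommRingCat.of A)).Opens := U ⊓ ⟨O₂, hO₂⟩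
  let V₁ : (Spec (CommRingCat.of A)).Opens := V ⊓ ⟨O₁, hO₁⟩
  let V₂ : (Spec (CommRingCat.of A)).Opens := V ⊓ ⟨O₂, hO₂⟩
  have hA₁ : Admissible A I U₁ V₁ := ⟨inf_le_inf_right _ hV.1, fun q hq hIq => ⟨hV.2 q hq.1 hIq, hq.2⟩⟩
  have hA₂ : Admissible A I U₂ V₂ := ⟨inf_le_inf_right _ hV.1, fun q hq hIq => ⟨hV.2 q hq.1 hIq, hq.2⟩⟩
  obtain ⟨W₁, ⟨hW₁, hle₁⟩, h1⟩ := inj_of_finite I U₁ (M := M) V₁ hA₁
    (r M (inf_le_left : V₁ ≤ V) s - t M V₁ one) fun n => section_ext fun q hq => by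
      rw [germ_mp, map_sub, germ_r, germ_t, map_sub, hval, map_zero, lm_ι]
      simp only [x, if_pos (show q ∈ O₁ from hq.2), sub_self]
  obtain ⟨W₂, ⟨hW₂, hle₂⟩, h2⟩ := inj_of_finite I U₂ (M := M) V₂ hA₂
    (r M (inf_le_left : V₂ ≤ V) s) fun n => section_ext fun q hq => by
      rw [germ_mp, germ_r, hval, map_zero]
      by_cases hIq : I ≤ q.asIdeal
      · have hq1 : q ∉ O₁ := fun h => hdisj q hIq (hV.1 hq.1) h hq.2
        simp only [x, if_neg hq1]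
      · exact L_eq_zero_of_not_le I hIq n _
  have hW12 : ∀ q : PrimeSpectrum A, q ∈ W₁ → q ∈ W₂ → False := by
    intro q hq1 hq2
    have e1 : germ (hle₁ hq1).1 s = ι q M one := by
      have := congrArg (germ hq1) h1
      rwa [map_sub, map_sub, map_zero, germ_r, germ_r, germ_r, germ_t, sub_eq_zero] at this
    have e2 : germ (hle₂ hq2).1 s = 0 := by
      have := congrArg (germ hq2) h2
      rwa [map_zero, germ_r, germ_r] at this
    have h0 : ι q M one = 0 := e1.symm.trans e2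
    obtain ⟨⟨c, hc⟩, hc0⟩ := (IsLocalizedModule.eq_zero_iff q.asIdeal.primeCompl _).1 h0
    have hc1 : c • (1 : A) ∈ nilradical A := (Submodule.Quotient.mk_eq_zero _).1 hc0
    rw [smul_eq_mul, mul_one] at hc1
    exact hc (nilradical_le_prime q.asIdeal hc1)
  have hsub : PrimeSpectrum.zeroLocus (I : Set A) \ PrimeSpectrum.zeroLocus (𝔞 : Set A) ⊆
      (W₁.1 : Set (PrimeSpectrum A)) ∪ W₂.1 := fun q hq =>
    (hcov hq).imp (fun h => hW₁.2 q ⟨hq.2, h⟩ hq.1) (fun h => hW₂.2 q ⟨hq.2, h⟩ hq.1)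
  obtain ⟨q₁, hq₁, hqO₁⟩ := hne₁
  obtain ⟨q₂, hq₂, hqO₂⟩ := hne₂
  have m₁ : q₁ ∈ W₁ := hW₁.2 q₁ ⟨hq₁.2, hqO₁⟩ hq₁.1
  have m₂ : q₂ ∈ W₂ := hW₂.2 q₂ ⟨hq₂.2, hqO₂⟩ hq₂.1
  obtain ⟨q, -, hqa, hqb⟩ := (h₃ _ (W₁.2.union W₂.2) ⟨q₁, Or.inl m₁⟩ hsub).2 W₁.1 W₂.1 W₁.2 W₂.2 (subset_refl _)
    ⟨q₁, Or.inl m₁, m₁⟩ ⟨q₂, Or.inr m₂, m₂⟩
  exact hW12 q hqa hqb

end GrothLib.FSecDual7
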