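import Groth.Agent.Lib.FSecDual7.Reduce
import Groth.Agent.Lib.Faltings.Transfer

/-!
# Extending sections across points of depth two, and formal sections on `U`
-/

set_option autoImplicit false
set_option linter.style.haveILetI false
set_option linter.unusedSectionVars false

universe u

open CategoryTheory AlgebraicGeometry Opposite TopologicalSpace Formal2 GrothLib.ColimSec7 GrothLib.ExtCech

attribute [local instance] HasDerivedCategory.standard

noncomputable section

namespace GrothLib.FSecDual7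

variable {A : Type u} [CommRing A] [IsNoetherianRing A] {M : Type u} [AddCommGroup M] [Module A M] [Module.Finite A M]

theorem mem_of_le {V : (Spec (CommRingCat.of A)).Opens} {p q : PrimeSpectrum A} (h : p ≤ q) (hq : q ∈ V) : p ∈ V := by
  obtain ⟨a, haq, haV⟩ := exists_basic hq
  exact haV fun ha => haq (h ha)

theorem homologyMap_lmR_id (q : PrimeSpectrum A) (fs : List (Rat' q))
    (hfs : Ideal.span {x | x ∈ fs} = IsLocalRing.maximalIdeal (Rat' q))
    (hdepth : (2 : ℕ∞) ≤ LocCoh.depth (Localization.AtPrime q.asIdeal) (LocalizedModule q.asIdeal.primeCompl M))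
    (i : ℕ) (hi : i < 2) :
    HomologicalComplex.homologyMap (cxMap (ModuleCat.ofHom (lmR q (LinearMap.id : M →ₗ[A] M))) fs) (i : ℤ) = 0 := by
  haveI : IsNoetherianRing (Rat' q) := IsLocalization.isNoetherianRing q.asIdeal.primeCompl _ inferInstance
  haveI : Module.Finite (Rat' q) (L q M) :=
    Module.Finite.of_isLocalizedModule q.asIdeal.primeCompl (ι q M)
  rw [show ModuleCat.ofHom (lmR q (LinearMap.id : M →ₗ[A] M)) = 𝟙 (ModuleCat.of (Rat' q) (L q M)) from
    ModuleCat.hom_ext (LinearMap.ext fun u => lm_id q u)]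
  exact homologyMap_id_eq_zero fs hfs _ hdepth i hi

/-- **Extension across points of depth two.** -/
theorem exists_extension {U V : (Spec (CommRingCat.of A)).Opens} (hVU : V ≤ U)
    (hdep : ∀ q : PrimeSpectrum A, q ∈ U → q ∉ V →
      (2 : ℕ∞) ≤ LocCoh.depth (Localization.AtPrime q.asIdeal) (LocalizedModule q.asIdeal.primeCompl M))
    (s : S M V) : ∃ w : S M U, r M hVU w = s := by
  let P : ∀ q : PrimeSpectrum A, L q M → Prop := fun q x =>
    ∀ (p : PrimeSpectrum A) (hp : p ≤ q) (hpV : p ∈ V), loc hp M x = germ hpV s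
  have hP : ∀ (p q : PrimeSpectrum A) (h : p ≤ q) (x : L q M), P q x → P p (loc h M x) := fun p q h x hx p' hp' hV => by
    rw [loc_comp, hx p' (hp'.trans h) hV]
  have key : ∀ (k : ℕ) (q : PrimeSpectrum A), q ∈ U → q.asIdeal.height ≤ (k : ℕ∞) → ∃! x, P q x := by
    intro k
    induction k using Nat.strong_induction_on with
    | _ k ih =>
      intro q hqU hk
      by_cases hqV : q ∈ V
      · refine ⟨germ hqV s, fun p hp hpV => loc_germ hp hpV hqV s, fun x hx => ?_⟩
        rw [← hx q le_rfl hqV, loc_refl]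
      have IH : ∀ p : PrimeSpectrum A, p < q → ∃! x, P p x := by
        intro p hp
        have hlt : p.asIdeal.height < (k : ℕ∞) :=
          lt_of_lt_of_le (Ideal.height_strict_mono_of_isPrime hp) hk
        obtain ⟨j, hj⟩ := ENat.ne_top_iff_exists.1 (ne_top_of_lt hlt)
        rw [← hj, Nat.cast_lt] at hlt
        exact ih j hlt p (mem_of_le hp.le hqU) hj.ge
      obtain ⟨t, ht⟩ : (IsLocalRing.maximalIdeal (Rat' q)).FG := IsNoetherian.noetherian _
      have hfs : Ideal.span {x | x ∈ t.toList} = IsLocalRing.maximalIdeal (Rat' q) := by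
        rw [show {x | x ∈ t.toList} = (t : Set (Rat' q)) by ext; simp]
        exact ht
      have h0 := homologyMap_lmR_id (M := M) q t.toList hfs (hdep q hqU hqV) 0 (by decide)
      have h1 := homologyMap_lmR_id (M := M) q t.toList hfs (hdep q hqU hqV) 1 (by decide)
      choose xp hxp using fun p hp => (IH p hp).exists
      have hcons : ∀ (p p' : PrimeSpectrum A) (h : p ≤ p') (hp' : p' < q),
          loc h M (xp p' hp') = xp p (h.trans_lt hp') := fun p p' h hp' =>
        (IH p (h.trans_lt hp')).unique (hP p p' h _ (hxp p' hp')) (hxp p (h.trans_lt hp'))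
      obtain ⟨u, hu⟩ := extend_step q t.toList hfs LinearMap.id h1 xp hcons
      refine ⟨u, fun p hp hpV => ?_, fun x hx => ?_⟩
      · have hpq : p < q := lt_of_le_of_ne hp fun he => hqV (he ▸ hpV)
        rw [hu p hpq, lm_id, ← hxp p hpq p le_rfl hpV, loc_refl]
      · have hz := kill_step q t.toList hfs LinearMap.id h0 (x - u) fun p hp => by
          rw [map_sub, sub_eq_zero, hu p hp, lm_id]
          exact (IH p hp).unique (hP p q hp.le x hx) (hxp p hp)
        rwa [lm_id, sub_eq_zero] at hz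
  have key' : ∀ q : PrimeSpectrum A, q ∈ U → ∃! x, P q x := fun q hq =>
    key q.asIdeal.height.toNat q hq (ENat.natCast_toNat (Ideal.height_ne_top q.isPrime.ne_top)).ge
  choose x hx using fun q hq => (key' q hq).exists
  obtain ⟨W, hW, w, hw⟩ := exists_section_of_germs {q : PrimeSpectrum A | q ∈ U} (fun p q h hq => mem_of_le h hq) x
    fun p q h hq => (key' p (mem_of_le h hq)).unique (hP p q h _ (hx q hq)) (hx p (mem_of_le h hq))
  refine ⟨r M hW w, section_ext fun p hp => ?_⟩
  rw [germ_r, germ_r, hw p (hVU hp), ← hx p (hVU hp) p le_rfl hp, loc_refl]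

/-- **Formal sections on `U`.** -/
theorem bijective_of_dim_depth (I 𝔞 : Ideal A) (hI : I ≤ 𝔞) [IsAdicComplete I A]
    (hω : ∃ ω : Dual.D A, Dual.IsDualizing A ω) (d : ℕ) (hd : LocCoh.CdLE A I d)
    (h₂ : ∀ p ∈ associatedPrimes A M, ¬ 𝔞 ≤ p → ¬ I ≤ p →
      (∃ r : Ideal A, r.IsPrime ∧ p ≤ r ∧ I ≤ r ∧ ¬ 𝔞 ≤ r) →
        ∀ (q : Ideal A) [q.IsPrime], p ≤ q → 𝔞 ≤ q → ((d + 1 : ℕ) : WithBot ℕ∞) < Formal2.dimBetween A p q)
    (h₃ : ∀ (p : Ideal A) [p.IsPrime], ¬ 𝔞 ≤ p →
      (∀ (r : Ideal A), r.IsPrime → p ≤ r → I ≤ r → 𝔞 ≤ r) →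
        (2 : ℕ∞) ≤ LocCoh.depth (Localization.AtPrime p) (LocalizedModule p.primeCompl M)) :
    FormalCohBijective A I M 0 (LocCoh.puncturedOpen A 𝔞) := by
  set U := LocCoh.puncturedOpen A 𝔞
  have hnear : ∀ V, Admissible A I U V → ∀ q : PrimeSpectrum A, q ∈ U → q ∉ V →
      (2 : ℕ∞) ≤ LocCoh.depth (Localization.AtPrime q.asIdeal) (LocalizedModule q.asIdeal.primeCompl M) :=
    fun V hV q hqU hqV => h₃ q.asIdeal hqU fun r hr hqr hIr => by
      by_contra har
      exact hqV (mem_of_le (q := ⟨r, hr⟩) hqr (hV.2 ⟨r, hr⟩ har hIr))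
  refine ⟨fun x x' hxx' => ?_, fun y hy => ?_⟩
  · refine (toS M U).injective ?_
    rw [← sub_eq_zero, ← map_sub]
    obtain ⟨V, ⟨hV, hle⟩, hres⟩ := inj_of_finite I U (M := M) U admissible_self (toS M U (x - x')) fun n => by
      rw [← toS_map, map_sub, hxx' n, sub_self, map_zero]
    refine section_ext fun q hq => ?_
    rw [map_zero]
    refine eq_zero_of_assoc q _ fun p hp hass => ?_
    rw [loc_germ hp (mem_of_le hp hq)]
    by_cases hpV : p ∈ V
    · rw [← germ_r hle hpV, hres, map_zero]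
    · have h2 := hnear V hV p (mem_of_le hp hq) hpV
      rw [Faltings.depth_eq_zero_of_mem_associatedPrimes hass] at h2
      exact absurd h2 (by decide)
  · obtain ⟨V, hV, s, hs⟩ := surj_of_dim 𝔞 hI hω d hd h₂ (fun n => toS _ U (y n)) fun n => by rw [← toS_map, hy n]
    obtain ⟨w, hw⟩ := exists_extension hV.1 (hnear V hV) s
    refine ⟨(toS M U).symm w, fun n => (toS _ U).injective ?_⟩
    rw [toS_map, AddEquiv.apply_symm_apply, ← sub_eq_zero]
    refine r_injective (n := n + 1) (fun b hb q => ?_) hV ?_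
    · obtain ⟨q, rfl⟩ := Submodule.Quotient.mk_surjective _ q
      exact (Submodule.Quotient.mk_eq_zero _).2 (Submodule.smul_mem_smul hb trivial)
    · rw [map_sub, hs n, mp_r, hw, sub_self, map_zero]

end GrothLib.FSecDual7
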