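import Groth.Agent.Lib.FSecDual7.Depth2
import Groth.Agent.Lib.PunctSec7.Formal

/-!
# Formal functions and full faithfulness from dualizing complexes
-/

set_option autoImplicit false
set_option linter.style.haveILetI false

universe u

open CategoryTheory CategoryTheory.Limits AlgebraicGeometry Opposite Formal2 TopologicalSpace

attribute [local instance] HasDerivedCategory.standard

noncomputable section

namespace GrothLib.FSecDual7

open GrothLib.Cohom (hhMap)
open GrothLib.FormalFun (Bij)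
open GrothLib.FormalSys
open GrothLib.PunctSec7

variable {A : Type u} [CommRing A] [IsNoetherianRing A] (𝔞 : Ideal A)

/-- Formal functions for `O` on the punctured spectrum. -/
theorem bij_structureModule (I : Ideal A) (hb : FormalCohBijective A I A 0 (LocCoh.puncturedOpen A 𝔞)) :
    Bij I (Coh.structureModule (LocCoh.puncturedOpen A 𝔞 : Scheme.{u})) 0 := by
  let e : rT 𝔞 A ≅ Coh.structureModule (LocCoh.puncturedOpen A 𝔞 : Scheme.{u}) :=
    (rW 𝔞).mapIso tildeSelf ≪≫ Scheme.Modules.restrictUnitIso _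
  refine bij_of_iso e ?_
  have inj : ∀ s : Formal2Sec7.Sc 𝔞 A, (∀ n, Formal2Sec7.sm 𝔞 (quotPowπ A I A n) s = 0) → s = 0 := fun s hs => by
    have := hb.1 ((ColimSec7.toS A _).symm s) 0 fun n => (ColimSec7.toS _ _).injective (by
      rw [ColimSec7.toS_map, AddEquiv.apply_symm_apply, map_zero, map_zero]
      exact hs n)
    have h := congrArg (ColimSec7.toS A _) this
    rwa [AddEquiv.apply_symm_apply, map_zero] at h
  have surj : ∀ y : ∀ n, Formal2Sec7.Sc 𝔞 (quotPow A I A n),
      (∀ n, Formal2Sec7.sm 𝔞 (quotPowTrans A I A n) (y (n + 1)) = y n) →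
        ∃ x : Formal2Sec7.Sc 𝔞 A, ∀ n, Formal2Sec7.sm 𝔞 (quotPowπ A I A n) x = y n := fun y hy => by
    obtain ⟨x, hx⟩ := hb.2 (fun n => (ColimSec7.toS _ _).symm (y n)) fun n => (ColimSec7.toS _ _).injective (by
      rw [ColimSec7.toS_map, AddEquiv.apply_symm_apply, AddEquiv.apply_symm_apply]
      exact hy n)
    exact ⟨ColimSec7.toS A _ x, fun n => (ColimSec7.toS_map _ _ _).symm.trans (by
      rw [hx n, AddEquiv.apply_symm_apply])⟩
  obtain ⟨σ, hσ⟩ := exists_sec_equiv 𝔞
  letI := Algz7.specOverSelf A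
  have hq : ∀ n, IsQuot (I ^ (n + 1)) (rTmap 𝔞 (quotPowπ A I A n)) := fun n =>
    isQuot_restrict _ rfl (Algz7.isQuot_tilde_map
      (ModuleCat.ofHom (R := CommRingCat.of A) (quotPowπ A I A n)) (Submodule.mkQ_surjective _) (Submodule.ker_mkQ _))
  choose ε hε using fun n => (hq n).exists_iso (IsQuot.modPowπ I (n + 1) (rT 𝔞 A))
  have htr : ∀ n, rTmap 𝔞 (quotPowTrans A I A n) ≫ (ε n).hom = (ε (n + 1)).hom ≫ Formal.modPowTrans I (n + 1) _ := by
    intro n
    haveI := (hq (n + 1)).epi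
    rw [← cancel_epi (rTmap 𝔞 (quotPowπ A I A (n + 1))), ← Category.assoc, ← Category.assoc, hε (n + 1),
      Formal.modPowπ_trans, ← hε n]
    congr 1
    refine ((rW 𝔞).map_comp _ _).symm.trans (congrArg (rW 𝔞).map ?_)
    refine (tilde.map_comp _ _).symm.trans (congrArg _ (ModuleCat.hom_ext (LinearMap.ext fun a => rfl)))
  have hstep : ∀ n (y : Coh.HH (LocCoh.puncturedOpen A 𝔞 : Scheme.{u}) (rT 𝔞 (quotPow A I A n)) 0),
      hhMap A (ε n).inv 0 (hhMap A (ε n).hom 0 y) = y := fun n y => by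
    rw [FormalFun.hhMap_comp, Iso.hom_inv_id, FormalFun.hhMap_id]
  refine ⟨fun x hx => (σ A).injective ?_, fun z hz => ?_⟩
  · rw [map_zero]
    refine inj _ fun n => ?_
    rw [← hσ, ← hstep n (hhMap A _ 0 x), FormalFun.hhMap_comp (rTmap 𝔞 (quotPowπ A I A n)) (ε n).hom, hε n, hx n,
      map_zero, map_zero]
  · obtain ⟨s, hs⟩ := surj (fun n => σ _ (hhMap A (ε n).inv 0 (z n))) fun n => by
      rw [← hσ, ← hz n, FormalFun.hhMap_comp, FormalFun.hhMap_comp]
      congr 3
      rw [Iso.eq_comp_inv, Category.assoc, htr n, Iso.inv_hom_id_assoc]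
    refine ⟨(σ A).symm s, fun n => ?_⟩
    have h1 : hhMap A (rTmap 𝔞 (quotPowπ A I A n)) 0 ((σ A).symm s) = hhMap A (ε n).inv 0 (z n) :=
      (σ _).injective (by rw [hσ, AddEquiv.apply_symm_apply, hs n])
    rw [← hε n, ← FormalFun.hhMap_comp, h1, FormalFun.hhMap_comp, Iso.inv_hom_id, FormalFun.hhMap_id]

/-- Completion is fully faithful on vector bundles. -/
theorem existsUnique_hom (I : Ideal A) (hb : FormalCohBijective A I A 0 (LocCoh.puncturedOpen A 𝔞))
    (E E' : (LocCoh.puncturedOpen A 𝔞 : Scheme.{u}).Modules) (hE : FlatMod.IsFinLocFree E) (hE' : FlatMod.IsFinLocFree E')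
    (ψ : Formal.completion I E ⟶ Formal.completion I E') :
    ∃! φ : E ⟶ E', ∀ n : ℕ, Formal.modPowπ I (n + 1) E ≫ ψ.app (op n) = φ ≫ Formal.modPowπ I (n + 1) E' := by
  let W := LocCoh.puncturedOpen A 𝔞
  haveI : IsLocallyNoetherian (W : Scheme.{u}) := isLocallyNoetherian_of_isOpenImmersion W.ι
  haveI : CompactSpace (W : Scheme.{u}) := isCompact_iff_compactSpace.1 (TopologicalSpace.NoetherianSpace.isCompact _)
  haveI : IsNoetherian (W : Scheme.{u}) := {}
  haveI : (W : Scheme.{u}).IsQuasiAffine := Scheme.IsQuasiAffine.of_isImmersion W.ι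
  exact FormalFun.existsUnique_hom _ (Euler.isCoh_of_isFinLocFree hE) (Euler.isCoh_of_isFinLocFree hE')
    (QASec7.bij_of_isFinLocFree _ (bij_structureModule 𝔞 I hb) (isFinLocFree_homSh hE hE')) ψ

end GrothLib.FSecDual7
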