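import Groth.Agent.Lib.ColimSec7.Principal
import Mathlib.RingTheory.Ideal.AssociatedPrime.Finiteness
import Mathlib.RingTheory.Ideal.AssociatedPrime.Localization
import Mathlib.Algebra.Module.LocalizedModule.Submodule

/-!
# Germs of sections of tilde modules, and sections from compatible families of germs
-/

set_option autoImplicit false
set_option linter.style.haveILetI false
set_option linter.unusedSectionVars false

universe u

open CategoryTheory AlgebraicGeometry Opposite TopologicalSpace Formal2 GrothLib.ColimSec7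

noncomputable section

namespace GrothLib.FSecDual7

variable {A : Type u} [CommRing A] [IsNoetherianRing A]

/-- The localisation at a prime. -/
abbrev L (q : PrimeSpectrum A) (N : Type u) [AddCommGroup N] [Module A N] : Type u :=
  LocalizedModule q.asIdeal.primeCompl N

/-- The map to the localisation. -/
abbrev ι (q : PrimeSpectrum A) (N : Type u) [AddCommGroup N] [Module A N] : N →ₗ[A] L q N :=
  LocalizedModule.mkLinearMap q.asIdeal.primeCompl N

/-- Functoriality of the localisation. -/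
def lm (q : PrimeSpectrum A) {M N : Type u} [AddCommGroup M] [Module A M] [AddCommGroup N] [Module A N]
    (φ : M →ₗ[A] N) : L q M →ₗ[A] L q N :=
  IsLocalizedModule.map q.asIdeal.primeCompl (ι q M) (ι q N) φ

theorem lm_ι (q : PrimeSpectrum A) {M N : Type u} [AddCommGroup M] [Module A M] [AddCommGroup N] [Module A N]
    (φ : M →ₗ[A] N) (x : M) : lm q φ (ι q M x) = ι q N (φ x) :=
  IsLocalizedModule.map_apply _ _ _ φ x

theorem primeCompl_le {p q : PrimeSpectrum A} (h : p ≤ q) : q.asIdeal.primeCompl ≤ p.asIdeal.primeCompl :=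
  fun _ hx hp => hx (h hp)

/-- Generisation. -/
def loc {p q : PrimeSpectrum A} (h : p ≤ q) (N : Type u) [AddCommGroup N] [Module A N] : L q N →ₗ[A] L p N :=
  LocalizedModule.liftOfLE q.asIdeal.primeCompl p.asIdeal.primeCompl (primeCompl_le h)

theorem loc_ι {p q : PrimeSpectrum A} (h : p ≤ q) {N : Type u} [AddCommGroup N] [Module A N] (x : N) :
    loc h N (ι q N x) = ι p N x :=
  LinearMap.congr_fun (IsLocalizedModule.liftOfLE_comp _ _ (primeCompl_le h) (ι q N) (ι p N)) x

section Ext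

variable {N : Type u} [AddCommGroup N] [Module A N] {P : Type u} [AddCommGroup P] [Module A P]

/-- Every element of the localisation is a fraction. -/
theorem exists_frac (q : PrimeSpectrum A) (u : L q N) :
    ∃ (c : N) (s : A), s ∉ q.asIdeal ∧ s • u = ι q N c := by
  obtain ⟨⟨c, s⟩, hs⟩ := IsLocalizedModule.surj q.asIdeal.primeCompl (ι q N) u
  exact ⟨c, s.1, s.2, hs⟩

theorem smul_cancel (q : PrimeSpectrum A) {s : A} (hs : s ∉ q.asIdeal) {u v : L q N} (h : s • u = s • v) : u = v :=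
  IsLocalizedModule.smul_injective (ι q N) (⟨s, hs⟩ : q.asIdeal.primeCompl) h

theorem hom_ext_ι (q : PrimeSpectrum A) {f g : L q N →ₗ[A] P}
    (hP : ∀ s : A, s ∉ q.asIdeal → IsSMulRegular P s) (h : ∀ x, f (ι q N x) = g (ι q N x)) : f = g := by
  refine LinearMap.ext fun u => ?_
  obtain ⟨c, s, hs, hu⟩ := exists_frac q u
  refine hP s hs ?_
  show s • f u = s • g u
  rw [← map_smul, ← map_smul, hu, h]

theorem loc_comp {p q r : PrimeSpectrum A} (h : p ≤ q) (h' : q ≤ r) (u : L r N) :
    loc h N (loc h' N u) = loc (h.trans h') N u := by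
  obtain ⟨c, s, hs, hu⟩ := exists_frac r u
  refine smul_cancel p (fun hp => hs (h' (h hp))) ?_
  rw [← map_smul, ← map_smul, ← map_smul, hu, loc_ι, loc_ι, loc_ι]

theorem loc_refl {q : PrimeSpectrum A} (h : q ≤ q) (u : L q N) : loc h N u = u := by
  obtain ⟨c, s, hs, hu⟩ := exists_frac q u
  refine smul_cancel q hs ?_
  rw [← map_smul, hu, loc_ι]

theorem loc_lm {p q : PrimeSpectrum A} (h : p ≤ q) (φ : N →ₗ[A] P) (u : L q N) :
    loc h P (lm q φ u) = lm p φ (loc h N u) := by
  obtain ⟨c, s, hs, hu⟩ := exists_frac q u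
  refine smul_cancel p (fun hp => hs (h hp)) ?_
  rw [← map_smul, ← map_smul, ← map_smul, ← map_smul, hu, lm_ι, loc_ι, loc_ι, lm_ι]

theorem lm_comp (q : PrimeSpectrum A) {Q : Type u} [AddCommGroup Q] [Module A Q] (φ : N →ₗ[A] P) (ψ : P →ₗ[A] Q)
    (u : L q N) : lm q ψ (lm q φ u) = lm q (ψ ∘ₗ φ) u := by
  obtain ⟨c, s, hs, hu⟩ := exists_frac q u
  refine smul_cancel q hs ?_
  rw [← map_smul, ← map_smul, ← map_smul, hu, lm_ι, lm_ι, lm_ι]
  rfl

theorem lm_id (q : PrimeSpectrum A) (u : L q N) : lm q (LinearMap.id : N →ₗ[A] N) u = u := by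
  obtain ⟨c, s, hs, hu⟩ := exists_frac q u
  refine smul_cancel q hs ?_
  rw [← map_smul, hu, lm_ι]
  rfl

/-- An element of a finite module with vanishing germs at the associated primes below is zero. -/
theorem eq_zero_of_assoc [Module.Finite A N] (q : PrimeSpectrum A) (u : L q N)
    (h : ∀ (p : PrimeSpectrum A) (hp : p ≤ q), p.asIdeal ∈ associatedPrimes A N → loc hp N u = 0) : u = 0 := by
  obtain ⟨c, s, hs, hu⟩ := exists_frac q u
  suffices hc : ι q N c = 0 by exact smul_cancel q hs (by rw [hu, hc, smul_zero])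
  by_contra hne
  let Ann : Ideal A := Ideal.torsionOf A N c
  have hA : Ann ≤ q.asIdeal := fun a ha => by
    by_contra haq
    exact hne ((IsLocalizedModule.eq_zero_iff q.asIdeal.primeCompl _).2 ⟨⟨a, haq⟩, ha⟩)
  obtain ⟨P, hP, hPq⟩ := Ideal.exists_minimalPrimes_le hA
  haveI := hP.isPrime
  have hass : P ∈ associatedPrimes A N := by
    let f : (A ⧸ Ann) →ₗ[A] N := Submodule.liftQ Ann (LinearMap.toSpanSingleton A N c) fun a ha => ha
    have hf : Function.Injective f := by
      refine (injective_iff_map_eq_zero _).2 fun x hx => ?_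
      obtain ⟨a, rfl⟩ := Submodule.Quotient.mk_surjective _ x
      exact (Submodule.Quotient.mk_eq_zero _).2 hx
    refine associatedPrimes.subset_of_injective hf ?_
    refine Module.associatedPrimes.minimalPrimes_annihilator_subset_associatedPrimes A (A ⧸ Ann) ?_
    rwa [Ideal.annihilator_quotient]
  have hPq' : (⟨P, hP.isPrime⟩ : PrimeSpectrum A) ≤ q := hPq
  have h0 := congrArg (s • ·) (h ⟨P, hP.isPrime⟩ hPq' hass)
  simp only [smul_zero] at h0
  rw [← map_smul, hu, loc_ι] at h0
  obtain ⟨⟨a, ha⟩, hac⟩ := (IsLocalizedModule.eq_zero_iff (Ideal.primeCompl P) _).1 h0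
  exact ha (hP.1.2 hac)

end Ext

section Sections

variable {N : Type u} [AddCommGroup N] [Module A N]

/-- The comparison of germs with localised sections. -/
def jmap (q : PrimeSpectrum A) (N : Type u) [AddCommGroup N] [Module A N] (W : (Spec (CommRingCat.of A)).Opens) :
    L q N →ₗ[A] L q (S N W) :=
  lm q (t N W)

theorem exists_basic {W : (Spec (CommRingCat.of A)).Opens} {q : PrimeSpectrum A} (hq : q ∈ W) :
    ∃ a : A, a ∉ q.asIdeal ∧ D a ≤ W := by
  obtain ⟨_, ⟨_, ⟨a, rfl⟩, rfl⟩, hqa, haW⟩ := PrimeSpectrum.isBasis_basic_opens.exists_subset_of_mem_open hq W.2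
  exact ⟨a, hqa, haW⟩

theorem jmap_bijective {q : PrimeSpectrum A} {W : (Spec (CommRingCat.of A)).Opens} (hq : q ∈ W) :
    Function.Bijective (jmap q N W) := by
  obtain ⟨a, haq, haW⟩ := exists_basic hq
  have hpow : ∀ k : ℕ, a ^ k ∉ q.asIdeal := fun k h => haq (q.isPrime.mem_of_pow_mem k h)
  refine ⟨(injective_iff_map_eq_zero _).2 fun u hu => ?_, fun v => ?_⟩
  · obtain ⟨c, s, hs, hu'⟩ := exists_frac q u
    refine smul_cancel q hs ?_
    rw [smul_zero, hu']
    have h0 : ι q (S N W) (t N W c) = 0 := by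
      rw [← lm_ι]
      change jmap q N W (ι q N c) = 0
      rw [← hu', map_smul, hu, smul_zero]
    obtain ⟨⟨b, hb⟩, hb'⟩ := (IsLocalizedModule.eq_zero_iff q.asIdeal.primeCompl _).1 h0
    have h1 : tilde.toOpen (ModuleCat.of (CommRingCat.of A) N) (D a) (b • c) = 0 := by
      have h2 := congrArg (r N haW) (show t N W (b • c) = 0 by rw [map_smul]; exact hb')
      rw [r_t, map_zero] at h2
      exact h2
    obtain ⟨l, hl⟩ := ker_gen (R := CommRingCat.of A) (ModuleCat.of (CommRingCat.of A) N) a (b • c) h1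
    refine (IsLocalizedModule.eq_zero_iff q.asIdeal.primeCompl _).2 ⟨⟨a ^ l * b, fun h =>
      (q.isPrime.mem_or_mem h).elim (hpow l) hb⟩, ?_⟩
    show (a ^ l * b) • c = 0
    rw [mul_smul]
    exact hl
  · obtain ⟨w, s, hs, hv⟩ := exists_frac q v
    obtain ⟨k, m, hm⟩ := exists_pow_smul_eq haW w
    refine ⟨LocalizedModule.mk m ⟨a ^ k * s, fun h => (q.isPrime.mem_or_mem h).elim (hpow k) hs⟩, ?_⟩
    refine smul_cancel q (s := a ^ k * s) (fun h => (q.isPrime.mem_or_mem h).elim (hpow k) hs) ?_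
    rw [← map_smul, mul_smul _ _ v, hv, ← map_smul, hm]
    have hmk : ∀ (g : A) (hg : g ∈ q.asIdeal.primeCompl), g • LocalizedModule.mk m (⟨g, hg⟩ : q.asIdeal.primeCompl) = ι q N m :=
      fun g hg => by
        rw [LocalizedModule.smul'_mk]
        exact LocalizedModule.mk_cancel (⟨g, hg⟩ : q.asIdeal.primeCompl) m
    rw [hmk]
    exact lm_ι q (t N W) m

/-- The germ of a section. -/
def germ {W : (Spec (CommRingCat.of A)).Opens} {q : PrimeSpectrum A} (hq : q ∈ W) : S N W →ₗ[A] L q N :=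
  (LinearEquiv.ofBijective (jmap q N W) (jmap_bijective hq)).symm.toLinearMap ∘ₗ ι q (S N W)

theorem jmap_germ {W : (Spec (CommRingCat.of A)).Opens} {q : PrimeSpectrum A} (hq : q ∈ W) (w : S N W) :
    jmap q N W (germ hq w) = ι q (S N W) w :=
  LinearEquiv.apply_symm_apply (LinearEquiv.ofBijective (jmap q N W) (jmap_bijective hq)) _

theorem germ_t {W : (Spec (CommRingCat.of A)).Opens} {q : PrimeSpectrum A} (hq : q ∈ W) (x : N) :
    germ hq (t N W x) = ι q N x :=
  (jmap_bijective hq).1 ((jmap_germ hq _).trans (lm_ι q (t N W) x).symm)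

theorem jmap_nat {P : Type u} [AddCommGroup P] [Module A P] (φ : N →ₗ[A] P) (W : (Spec (CommRingCat.of A)).Opens)
    (q : PrimeSpectrum A) (u : L q N) : lm q (mp φ W) (jmap q N W u) = jmap q P W (lm q φ u) := by
  rw [jmap, jmap, lm_comp, lm_comp]
  congr 2
  exact LinearMap.ext fun x => mp_t φ W x

theorem germ_mp {P : Type u} [AddCommGroup P] [Module A P] (φ : N →ₗ[A] P) {W : (Spec (CommRingCat.of A)).Opens}
    {q : PrimeSpectrum A} (hq : q ∈ W) (w : S N W) : germ hq (mp φ W w) = lm q φ (germ hq w) := by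
  refine (jmap_bijective hq).1 ?_
  rw [jmap_germ, ← jmap_nat, jmap_germ, lm_ι]

theorem germ_r {V W : (Spec (CommRingCat.of A)).Opens} (h : W ≤ V) {q : PrimeSpectrum A} (hq : q ∈ W) (w : S N V) :
    germ hq (r N h w) = germ (h hq) w := by
  refine (jmap_bijective hq).1 ?_
  rw [jmap_germ]
  have e := jmap_germ (h hq) w
  apply_fun lm q (r N h) at e
  rw [lm_ι] at e
  rw [← e, jmap, lm_comp, jmap]
  congr 2

theorem loc_germ {W : (Spec (CommRingCat.of A)).Opens} {p q : PrimeSpectrum A} (h : p ≤ q) (hp : p ∈ W) (hq : q ∈ W)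
    (w : S N W) : loc h N (germ hq w) = germ hp w := by
  refine (jmap_bijective hp).1 ?_
  rw [jmap_germ]
  show lm p (t N W) (loc h N (germ hq w)) = _
  rw [← loc_lm]
  change loc h (S N W) (jmap q N W (germ hq w)) = _
  rw [jmap_germ, loc_ι]

/-- Sections are determined by their germs. -/
theorem section_ext {W : (Spec (CommRingCat.of A)).Opens} {w w' : S N W}
    (h : ∀ (q : PrimeSpectrum A) (hq : q ∈ W), germ hq w = germ hq w') : w = w' := by
  let J : Type u := {c : A // c • (w - w') = 0}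
  let U : J → (Spec (CommRingCat.of A)).Opens := fun c => D c.1 ⊓ W
  refine eq_of_locally (U := U) (fun c => inf_le_right) (fun q hq => ?_) fun c => ?_
  · have h0 : ι q (S N W) (w - w') = 0 := by
      rw [map_sub, ← jmap_germ (q := q) hq, ← jmap_germ (q := q) hq, h q hq, sub_self]
    obtain ⟨⟨c, hc⟩, hc'⟩ := (IsLocalizedModule.eq_zero_iff q.asIdeal.primeCompl _).1 h0
    exact Opens.mem_iSup.2 ⟨⟨c, hc'⟩, hc, hq⟩
  · refine smul_injective (a := c.1) inf_le_left 1 ?_
    rw [pow_one, ← map_smul, ← map_smul, ← sub_eq_zero, ← map_sub, ← smul_sub, c.2, map_zero]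

/-- **Sections from germs.** A compatible family of germs on a set stable under generisation is given by a
section over a neighbourhood. -/
theorem exists_section_of_germs [Module.Finite A N] (T : Set (PrimeSpectrum A))
    (hT : ∀ p q : PrimeSpectrum A, p ≤ q → q ∈ T → p ∈ T) (x : ∀ q : PrimeSpectrum A, q ∈ T → L q N)
    (hx : ∀ (p q : PrimeSpectrum A) (h : p ≤ q) (hq : q ∈ T), loc h N (x q hq) = x p (hT p q h hq)) :
    ∃ (W : (Spec (CommRingCat.of A)).Opens) (hW : ∀ q, q ∈ T → q ∈ W) (w : S N W),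
      ∀ (q : PrimeSpectrum A) (hq : q ∈ T), germ (hW q hq) w = x q hq := by
  classical
  have hfin : (associatedPrimes A N).Finite := associatedPrimes.finite A N
  have key : ∀ q : PrimeSpectrum A, ∀ hq : q ∈ T, ∃ (a : A) (w : S N (D a)), ∃ hqa : q ∈ D a,
      (∀ p : PrimeSpectrum A, p.asIdeal ∈ associatedPrimes A N → p ∈ D a → p ≤ q) ∧ germ hqa w = x q hq := by
    intro q hq
    let F := hfin.toFinset.filter fun P => ¬ P ≤ q.asIdeal
    have hb : ∀ P ∈ F, ∃ b ∈ P, b ∉ q.asIdeal := fun P hP => Set.not_subset.1 (Finset.mem_filter.1 hP).2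
    choose b hbP hbq using hb
    let β : A := ∏ P ∈ F.attach, b P.1 P.2
    have hβ : β ∉ q.asIdeal := fun h => by
      obtain ⟨P, -, hP⟩ := (q.isPrime.prod_mem_iff).1 h
      exact hbq P.1 P.2 hP
    obtain ⟨c, s, hs, hu⟩ := exists_frac q (x q hq)
    obtain ⟨w, hw⟩ := smul_surjective (M := N) (le_refl (D (β * s))) 1 (β • t N (D (β * s)) c)
    have hqa : q ∈ D (β * s) := fun h => (q.isPrime.mem_or_mem h).elim hβ hs
    refine ⟨β * s, w, hqa, fun p hp hpa => ?_, ?_⟩
    · by_contra hle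
      have hP : p.asIdeal ∈ F := Finset.mem_filter.2 ⟨hfin.mem_toFinset.2 hp, hle⟩
      exact hpa (p.asIdeal.mul_mem_right s (Ideal.prod_mem _ (F.mem_attach ⟨p.asIdeal, hP⟩) (hbP _ hP)))
    · refine smul_cancel q hqa ?_
      rw [pow_one] at hw
      rw [mul_smul _ _ (x q hq), hu, ← map_smul, hw, map_smul, germ_t]
  choose a w hmem hass hgerm using key
  let J : Type u := {q : PrimeSpectrum A // q ∈ T}
  let U : J → (Spec (CommRingCat.of A)).Opens := fun q => D (a q.1 q.2)
  have hover : ∀ i j : J, r N (inf_le_left : U i ⊓ U j ≤ U i) (w i.1 i.2) =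
      r N (inf_le_right : U i ⊓ U j ≤ U j) (w j.1 j.2) := by
    intro i j
    refine section_ext fun p hp => ?_
    rw [germ_r, germ_r, ← sub_eq_zero]
    refine eq_zero_of_assoc p _ fun p' hp' hassoc => ?_
    have hpi : p' ∈ D (a i.1 i.2) := fun h => hp.1 (hp' h)
    have hpj : p' ∈ D (a j.1 j.2) := fun h => hp.2 (hp' h)
    rw [map_sub, loc_germ hp' hpi, loc_germ hp' hpj, sub_eq_zero,
      ← loc_germ (hass i.1 i.2 p' hassoc hpi) hpi (hmem i.1 i.2),
      ← loc_germ (hass j.1 j.2 p' hassoc hpj) hpj (hmem j.1 j.2), hgerm, hgerm, hx, hx]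
  obtain ⟨v, hv⟩ := exists_glue (fun i => le_iSup U i) le_rfl (fun i : J => w i.1 i.2) hover
  refine ⟨iSup U, fun q hq => Opens.mem_iSup.2 ⟨⟨q, hq⟩, hmem q hq⟩, v, fun q hq => ?_⟩
  rw [← hgerm q hq, ← hv ⟨q, hq⟩, germ_r]

end Sections

end GrothLib.FSecDual7
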