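import Groth.Agent.Lib.FSecDual7.Main
import Groth.Agent.Lib.AdicLim.Finite

/-!
# Formal sections on an open are elements of the module
-/

set_option autoImplicit false
set_option linter.style.haveILetI false
set_option linter.unusedSectionVars false

universe u

open CategoryTheory AlgebraicGeometry Opposite TopologicalSpace Formal2 GrothLib.ColimSec7 GrothLib.ExtCech
open GrothLib.Formal2Chase7 (tr)

noncomputable section

namespace GrothLib.FSecDual7

variable {A : Type u} [CommRing A] [IsNoetherianRing A]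

theorem eq_of_forall_ι {N : Type u} [AddCommGroup N] [Module A N] {x y : N}
    (h : ∀ q : PrimeSpectrum A, ι q N x = ι q N y) : x = y := by
  rw [← sub_eq_zero]
  by_contra hne
  have htop : Ideal.torsionOf A N (x - y) ≠ ⊤ := fun h0 => hne (by
    have h1 : (1 : A) ∈ Ideal.torsionOf A N (x - y) := h0 ▸ trivial
    rw [← one_smul A (x - y)]; exact h1)
  obtain ⟨m, hm, hle⟩ := Ideal.exists_le_maximal _ htop
  let q : PrimeSpectrum A := ⟨m, hm.isPrime⟩
  have h0 : ι q N (x - y) = 0 := by rw [map_sub, h q, sub_self]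
  obtain ⟨⟨b, hb⟩, hbz⟩ := (IsLocalizedModule.eq_zero_iff q.asIdeal.primeCompl _).1 h0
  exact hb (hle hbz)

variable (I : Ideal A) {M : Type u} [AddCommGroup M] [Module A M]

theorem tr_comp_tr {n m k : ℕ} (h : n ≤ m) (h' : m ≤ k) : tr I M h ∘ₗ tr I M h' = tr I M (h.trans h') :=
  (Formal2Chase7.mapQ_id_comp _ _ _ _ _ _).symm

variable (U : (Spec (CommRingCat.of A)).Opens) (y : ∀ n, S (quotPow A I M n) U)

/-- A compatible family of germs at `q` extending the formal section. -/
def IsExt (q : PrimeSpectrum A) (x : ∀ n, L q (quotPow A I M n)) : Prop :=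
  (∀ (n m : ℕ) (h : n ≤ m), lm q (tr I M h) (x m) = x n) ∧
    ∀ (p : PrimeSpectrum A) (hp : p ≤ q) (hpU : p ∈ U) (n : ℕ), loc hp _ (x n) = germ hpU (y n)

theorem IsExt.loc {q : PrimeSpectrum A} {x : ∀ n, L q (quotPow A I M n)} (hx : IsExt I U y q x)
    {p : PrimeSpectrum A} (hp : p ≤ q) : IsExt I U y p fun n => FSecDual7.loc hp _ (x n) :=
  ⟨fun n m h => by rw [← loc_lm, hx.1 n m h], fun p' hp' hU n => by rw [loc_comp, hx.2 p' (hp'.trans hp) hU n]⟩

variable [Module.Finite A M]

/-- **Existence and uniqueness of the germs.** -/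
theorem existsUnique_ext (hω : ∃ ω : Dual.D A, Dual.IsDualizing A ω) (d : ℕ) (hd : LocCoh.CdLE A I d)
    (hU : ∀ q : PrimeSpectrum A, q ∉ U → I ≤ q.asIdeal ∧ Cond q d M)
    (hy : ∀ n, mp (quotPowTrans A I M n) U (y (n + 1)) = y n) :
    ∀ q : PrimeSpectrum A, ∃! x, IsExt I U y q x := by
  suffices key : ∀ (k : ℕ) (q : PrimeSpectrum A), q.asIdeal.height ≤ (k : ℕ∞) → ∃! x, IsExt I U y q x by
    intro q
    exact key q.asIdeal.height.toNat q (ENat.natCast_toNat (Ideal.height_ne_top q.isPrime.ne_top)).ge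
  intro k
  induction k using Nat.strong_induction_on with
  | _ k ih =>
    intro q hk
    by_cases hqU : q ∈ U
    · refine ⟨fun n => germ hqU (y n), ⟨fun n m h => ?_, fun p hp hpU n => loc_germ hp hpU hqU _⟩, ?_⟩
      · rw [← germ_mp, tr_z y hy n m h]
      · intro x hx
        funext n
        rw [← hx.2 q le_rfl hqU n, loc_refl]
    have IH : ∀ p : PrimeSpectrum A, p < q → ∃! x, IsExt I U y p x := by
      intro p hp
      have hlt : p.asIdeal.height < (k : ℕ∞) :=
        lt_of_lt_of_le (Ideal.height_strict_mono_of_isPrime hp) hk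
      obtain ⟨j, hj⟩ := ENat.ne_top_iff_exists.1 (ne_top_of_lt hlt)
      rw [← hj, Nat.cast_lt] at hlt
      exact ih j hlt p hj.ge
    obtain ⟨hIq, hc⟩ := hU q hqU
    obtain ⟨t, ht⟩ : (IsLocalRing.maximalIdeal (Rat' q)).FG := IsNoetherian.noetherian _
    have hfs : Ideal.span {x | x ∈ t.toList} = IsLocalRing.maximalIdeal (Rat' q) := by
      rw [show {x | x ∈ t.toList} = (t : Set (Rat' q)) by ext; simp]
      exact ht
    choose m₁ hm₁ h₁ using exists_lmR_tr_eq_zero q I hIq hω d hd hc t.toList hfs 1 le_rfl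
    choose m₀ hm₀ h₀ using exists_lmR_tr_eq_zero q I hIq hω d hd hc t.toList hfs 0 zero_le_one
    have huniq : ∀ x x', IsExt I U y q x → IsExt I U y q x' → x = x' := by
      intro x x' hx hx'
      funext n
      rw [← hx.1 n (m₀ n) (hm₀ n), ← hx'.1 n (m₀ n) (hm₀ n), ← sub_eq_zero, ← map_sub]
      refine kill_step q t.toList hfs _ (h₀ n) _ fun p hp => ?_
      rw [map_sub, sub_eq_zero]
      exact congrFun ((IH p hp).unique (hx.loc I U y hp.le) (hx'.loc I U y hp.le)) (m₀ n)
    choose xp hxp using fun p hp => (IH p hp).exists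
    have hcons : ∀ (p p' : PrimeSpectrum A) (h : p ≤ p') (hp' : p' < q) (n : ℕ),
        FSecDual7.loc h _ (xp p' hp' n) = xp p (h.trans_lt hp') n := fun p p' h hp' n =>
      congrFun ((IH p (h.trans_lt hp')).unique ((hxp p' hp').loc I U y h) (hxp p (h.trans_lt hp'))) n
    choose u hu using fun n => extend_step q t.toList hfs (tr I M (hm₁ n)) (h₁ n)
      (fun p hp => xp p hp (m₁ n)) (fun p p' h hp' => hcons p p' h hp' (m₁ n))
    have hu' : ∀ n p (hp : p < q), FSecDual7.loc hp.le _ (u n) = xp p hp n := fun n p hp => by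
      rw [hu n p hp, (hxp p hp).1 n (m₁ n) (hm₁ n)]
    let x : ∀ n, L q (quotPow A I M n) := fun n => lm q (tr I M (hm₀ n)) (u (m₀ n))
    have hxN : ∀ n N (h : m₀ n ≤ N), x n = lm q (tr I M ((hm₀ n).trans h)) (u N) := by
      intro n N h
      rw [← tr_comp_tr I (hm₀ n) h, ← lm_comp, ← sub_eq_zero, ← map_sub]
      refine kill_step q t.toList hfs _ (h₀ n) _ fun p hp => ?_
      rw [map_sub, loc_lm, hu' _ p hp, hu' _ p hp, (hxp p hp).1 (m₀ n) N h, sub_self]
    refine ⟨x, ⟨fun n m h => ?_, fun p hp hpU n => ?_⟩, fun x' hx' => huniq _ _ hx' ⟨fun n m h => ?_, fun p hp hpU n => ?_⟩⟩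
    · rw [hxN n (max (m₀ n) (m₀ m)) (le_max_left _ _), hxN m (max (m₀ n) (m₀ m)) (le_max_right _ _), lm_comp,
        tr_comp_tr]
    · have hpq : p < q := lt_of_le_of_ne hp fun he => hqU (he ▸ hpU)
      rw [loc_lm, hu' _ p hpq, (hxp p hpq).1 n (m₀ n) (hm₀ n), ← (hxp p hpq).2 p le_rfl hpU n, loc_refl]
    · rw [hxN n (max (m₀ n) (m₀ m)) (le_max_left _ _), hxN m (max (m₀ n) (m₀ m)) (le_max_right _ _), lm_comp,
        tr_comp_tr]
    · have hpq : p < q := lt_of_le_of_ne hp fun he => hqU (he ▸ hpU)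
      rw [loc_lm, hu' _ p hpq, (hxp p hpq).1 n (m₀ n) (hm₀ n), ← (hxp p hpq).2 p le_rfl hpU n, loc_refl]

/-- **A formal section on `U` is an element of the module.** -/
theorem exists_element [IsAdicComplete I A] (hω : ∃ ω : Dual.D A, Dual.IsDualizing A ω) (d : ℕ)
    (hd : LocCoh.CdLE A I d)
    (hU : ∀ q : PrimeSpectrum A, q ∉ U → I ≤ q.asIdeal ∧ Cond q d M)
    (hy : ∀ n, mp (quotPowTrans A I M n) U (y (n + 1)) = y n) :
    ∃ m : M, ∀ n, t (quotPow A I M n) U (quotPowπ A I M n m) = y n := by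
  have key := existsUnique_ext I U y hω d hd hU hy
  choose x hx using fun q => (key q).exists
  have hcomp : ∀ n (p q : PrimeSpectrum A) (h : p ≤ q), FSecDual7.loc h _ (x q n) = x p n := fun n p q h =>
    congrFun ((key p).unique ((hx q).loc I U y h) (hx p)) n
  have hel : ∀ n, ∃ c : quotPow A I M n, ∀ q, ι q _ c = x q n := by
    intro n
    obtain ⟨W, hW, w, hw⟩ := exists_section_of_germs (A := A) (N := quotPow A I M n) Set.univ
      (fun _ _ _ _ => trivial) (fun q _ => x q n) (fun p q h _ => hcomp n p q h)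
    obtain ⟨k, c, hc⟩ := exists_pow_smul_eq (a := (1 : A)) (fun p _ => hW p trivial) w
    rw [one_pow, one_smul] at hc
    exact ⟨c, fun q => by rw [← germ_t (hW q trivial) c, ← hc, hw q trivial]⟩
  choose c hc using hel
  have hct : ∀ n m (h : n ≤ m), tr I M h (c m) = c n := fun n m h => eq_of_forall_ι fun q => by
    rw [← lm_ι, hc, hc, (hx q).1 n m h]
  choose f hf using fun n => Submodule.Quotient.mk_surjective _ (c n)
  haveI : IsAdicComplete I M := GrothLib.AdicLim.isAdicComplete_of_finite I M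
  obtain ⟨m, hm⟩ := IsPrecomplete.prec (I := I) (M := M) inferInstance (f := f) (fun {a b} hab => by
    refine (Submodule.Quotient.eq _).2 (Submodule.smul_mono_left (Ideal.pow_le_pow_right (Nat.le_succ a))
      ((Submodule.Quotient.eq _).1 ?_))
    rw [hf a, ← hct a b hab, ← hf b]
    rfl)
  refine ⟨m, fun n => section_ext fun p hp => ?_⟩
  rw [germ_t, ← (hx p).2 p le_rfl hp n, loc_refl, ← hc]
  congr 1
  rw [← hct n (n + 1) (Nat.le_succ n), ← hf (n + 1)]
  exact (Submodule.Quotient.eq _).2 ((Submodule.Quotient.eq _).1 (hm (n + 1)).symm)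

end GrothLib.FSecDual7
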