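import Mathlib.RingTheory.Artinian.Module

/-!
# Inverse systems of Artinian modules with vanishing limit are pro-zero
-/

set_option autoImplicit false
set_option linter.style.haveILetI false
universe u

namespace GrothLib.FSecDual7

variable {A : Type u} [CommRing A] (X : ℕ → Type u) [∀ n, AddCommGroup (X n)] [∀ n, Module A (X n)]
  (T : ∀ {n m : ℕ}, n ≤ m → (X m →ₗ[A] X n))

/-- An inverse system of Artinian modules with zero limit has eventually zero transition maps. -/
theorem exists_transition_eq_zero (hid : ∀ n (x : X n), T (le_refl n) x = x)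
    (hcomp : ∀ {n m k : ℕ} (h : n ≤ m) (h' : m ≤ k) (x : X k), T h (T h' x) = T (h.trans h') x)
    (hart : ∀ n, IsArtinian A (X n))
    (hlim : ∀ y : ∀ n, X n, (∀ n, T (Nat.le_succ n) (y (n + 1)) = y n) → ∀ n, y n = 0) (n : ℕ) :
    ∃ (m : ℕ) (h : n ≤ m), ∀ x, T h x = 0 := by
  classical
  have hst : ∀ n, ∃ k₀, ∀ k, k₀ ≤ k → LinearMap.range (T (Nat.le_add_right n k₀)) =
      LinearMap.range (T (Nat.le_add_right n k)) := by
    intro n
    haveI := hart n
    exact IsArtinian.monotone_stabilizes (⟨fun k => LinearMap.range (T (Nat.le_add_right n k)), fun a b hab => by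
      change LinearMap.range (T (Nat.le_add_right n b)) ≤ LinearMap.range (T (Nat.le_add_right n a))
      rintro _ ⟨x, rfl⟩
      exact ⟨T (Nat.add_le_add_left hab n) x, hcomp _ _ x⟩⟩ : ℕ →o (Submodule A (X n))ᵒᵈ)
  choose k₀ hk₀ using hst
  let P : ∀ n, Submodule A (X n) := fun n => LinearMap.range (T (Nat.le_add_right n (k₀ n)))
  have hmem : ∀ {n m : ℕ} (h : n ≤ m), n + k₀ n ≤ m → ∀ x, T h x ∈ P n := by
    intro n m h hm x
    exact ⟨T hm x, hcomp _ _ x⟩
  have hsurj : ∀ n (x : X n), x ∈ P n → ∃ y, y ∈ P (n + 1) ∧ T (Nat.le_succ n) y = x := by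
    intro n x hx
    have hm : k₀ n ≤ k₀ n + k₀ (n + 1) + 1 := by omega
    rw [show P n = _ from hk₀ n _ hm] at hx
    obtain ⟨z, rfl⟩ := hx
    exact ⟨T (show n + 1 ≤ n + (k₀ n + k₀ (n + 1) + 1) by omega) z, hmem _ (by omega) z, hcomp _ _ z⟩
  refine ⟨n + k₀ n, Nat.le_add_right _ _, fun x => ?_⟩
  let x₀ := T (Nat.le_add_right n (k₀ n)) x
  let up : ∀ k, {y : X (n + k) // y ∈ P (n + k)} := fun k =>
    Nat.rec (motive := fun k => {y : X (n + k) // y ∈ P (n + k)}) ⟨x₀, ⟨x, rfl⟩⟩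
      (fun k y => ⟨(hsurj (n + k) y.1 y.2).choose, (hsurj (n + k) y.1 y.2).choose_spec.1⟩) k
  have hup : ∀ k, T (Nat.le_succ (n + k)) (up (k + 1)).1 = (up k).1 := fun k =>
    (hsurj (n + k) (up k).1 (up k).2).choose_spec.2
  let y : ∀ m, X m := fun m => T (Nat.le_add_left m n) (up m).1
  have hy : ∀ m, T (Nat.le_succ m) (y (m + 1)) = y m := by
    intro m
    show T _ (T _ (up (m + 1)).1) = T _ (up m).1
    rw [← hup m, hcomp, hcomp]
  have h0 := hlim y hy n
  have hdown : ∀ k, T (Nat.le_add_right n k) (up k).1 = x₀ := by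
    intro k
    induction k with
    | zero => exact hid n x₀
    | succ k ih =>
      rw [← ih, ← hup k, hcomp]
  show x₀ = 0
  rw [← hdown n]
  exact h0

end GrothLib.FSecDual7
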