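import Groth.Agent.Lib.FSecDual7.Killed
import Groth.Agent.Lib.FSecDual7.ProZero
import Groth.Agent.Lib.RGamma.CechRlim
import Groth.Agent.Lib.ExtCech.Compare
import Groth.Agent.Lib.DualRing.Shift
import Groth.Agent.Lib.FaltingsT3.Duality
import Groth.Agent.Lib.LC.TopNonzero
import Groth.Agent.S1712
import Groth.Agent.S11172

/-!
# Local vanishing: the systems `H^i_𝔪(M/IⁿM)`, `i ≤ 1`, are pro-zero under depth and dimension conditions
-/

set_option autoImplicit false
set_option linter.style.haveILetI false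
set_option linter.unusedSectionVars false
universe u

open CategoryTheory CategoryTheory.Limits Pretriangulated DerCA

attribute [local instance] HasDerivedCategory.standard

namespace GrothLib.FSecDual7

variable {R : Type u} [CommRing R] [IsNoetherianRing R] [IsLocalRing R]

/-- The degree-wise hypothesis on cohomology modules. -/
def Piece (d : ℕ) (i : ℤ) (H : Type u) [AddCommGroup H] [Module R H] : Prop :=
  (i < 2 → Subsingleton H) ∧
    (i ≤ (d : ℤ) + 1 → ∃ K : Ideal R, (∀ k ∈ K, ∀ x : H, k • x = 0) ∧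
      ringKrullDim (R ⧸ K) ≤ (((i - 2).toNat : ℕ) : WithBot ℕ∞))

omit [IsLocalRing R] in
theorem van_shift_iff {fs : List R} (X : Dual.D R) (a j : ℤ) (h : Van fs X (a + j)) : Van fs (X⟦a⟧) j := by
  intro ξ
  refine (cancel_mono ((shiftFunctorAdd (Dual.D R) a j).inv.app X)).1 ?_
  rw [zero_comp]
  exact h _

/-- Bounded objects with controlled cohomology have no maps from the Čech complex in degrees `≤ 1`. -/
theorem van_of_pieces (I : Ideal R) (hI : I ≤ IsLocalRing.maximalIdeal R) (fs : List R)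
    (hfs : Ideal.span {x : R | x ∈ fs} = I) (d : ℕ)
    (hP : ∀ i : ℤ, (d : ℤ) < i → Subsingleton (Dual.HD R (cechD fs) i)) (j : ℤ) (hj : j ≤ 1) :
    ∀ (k : ℕ) (X : Dual.D R), (∀ i : ℤ, 1 + (k : ℤ) < i → Subsingleton (Dual.HD R X i)) →
      (∀ i : ℤ, Piece (R := R) d i (Dual.HD R X i)) → Van fs X j := by
  intro k
  induction k with
  | zero =>
    intro X hb hX
    refine van_of_isGE hP (n := (d : ℤ) + j + 1) (fun i _ => ?_) (by omega)
    by_cases hi : i < 2
    · exact (hX i).1 hi
    · exact hb i (by omega)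
  | succ k ih =>
    intro X hb hX
    obtain ⟨T, hT, rfl, ⟨e⟩, hlt, hge⟩ := GrothLib.DualRing.exists_top_triangle X (1 + ((k + 1 : ℕ) : ℤ))
      (fun i hi => hb i hi)
    refine van_of_triangle hT (ih T.obj₁ (fun i hi => hge i (by omega)) fun i => ?_) ?_
    · by_cases hi : i < 1 + ((k + 1 : ℕ) : ℤ)
      · obtain ⟨g⟩ := hlt i hi
        refine ⟨fun h => (haveI := (hX i).1 h; g.toEquiv.subsingleton), fun h => ?_⟩
        obtain ⟨K, hK, hd⟩ := (hX i).2 h
        exact ⟨K, fun k hk x => g.injective (by rw [map_smul, map_zero]; exact hK k hk _), hd⟩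
      · haveI := hge i (by omega)
        exact ⟨fun _ => inferInstance, fun _ => ⟨⊤, fun _ _ _ => Subsingleton.elim _ _, by
          haveI : Subsingleton (R ⧸ (⊤ : Ideal R)) := Ideal.Quotient.subsingleton_iff.2 rfl
          rw [ringKrullDim_eq_bot_of_subsingleton]
          exact bot_le⟩⟩
    · refine Van.of_iso e.symm (van_shift_iff _ _ _ ?_)
      set b : ℤ := 1 + ((k + 1 : ℕ) : ℤ) with hb'
      by_cases hbd : b ≤ (d : ℤ) + 1
      · obtain ⟨K, hK, hd⟩ := (hX b).2 hbd
        exact van_inD_of_killed I hI fs hfs _ K hK _ hd _ (by omega)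
      · exact van_of_isGE hP (n := 0) (fun i hi => DR.subsingleton_HD_inD _ i (by omega)) (by omega)

/-- Dimension of a quotient from the dimensions at the primes of its zero locus. -/
theorem ringKrullDim_quotient_le (K : Ideal R) (c : WithBot ℕ∞)
    (h : ∀ p : PrimeSpectrum R, K ≤ p.asIdeal → ringKrullDim (R ⧸ p.asIdeal) ≤ c) :
    ringKrullDim (R ⧸ K) ≤ c := by
  rw [ringKrullDim_quotient]
  refine iSup_le fun l => ?_
  refine le_trans ?_ (h l.head.1 l.head.2)
  rw [ringKrullDim_quotient, show PrimeSpectrum.zeroLocus (l.head.1.asIdeal : Set R) = Set.Ici l.head.1 from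
    Set.ext fun y => Iff.rfl, ← Order.coheight_eq_krullDim_Ici]
  exact WithBot.coe_le_coe.2 (Order.length_le_coheight (p := l.map Subtype.val (fun _ _ h => h)) le_rfl)

/-- The depth-dimension condition makes the cohomology controlled. -/
theorem piece_extCech (ω : Dual.D R) (hω : Dual.IsDualizing R ω) (fs : List R)
    (hfs : Ideal.span {x : R | x ∈ fs} = IsLocalRing.maximalIdeal R) (d : ℕ) (D : Type u) [AddCommGroup D]
    [Module R D] [Module.Finite R D]
    (h : ∀ p : PrimeSpectrum R, p ∈ Module.support R D →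
      (2 : ℕ∞) ≤ LocCoh.depth (Localization.AtPrime p.asIdeal) (LocalizedModule p.asIdeal.primeCompl D) ∨
      ((d + 2 : ℕ) : WithBot ℕ∞) ≤ ((LocCoh.depth (Localization.AtPrime p.asIdeal)
        (LocalizedModule p.asIdeal.primeCompl D) : ℕ∞) : WithBot ℕ∞) + ringKrullDim (R ⧸ p.asIdeal))
    (i : ℤ) : Piece (R := R) d i (extCechH fs (ModuleCat.of R D) i) := by
  by_cases hi0 : i < 0
  · haveI := ModuleCat.subsingleton_of_isZero (ExtCech.isZero_H fs (ModuleCat.of R D) i (Or.inl hi0))
    exact ⟨fun _ => inferInstance, fun _ => ⟨⊤, fun _ _ _ => Subsingleton.elim _ _, by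
      haveI : Subsingleton (R ⧸ (⊤ : Ideal R)) := Ideal.Quotient.subsingleton_iff.2 rfl
      rw [ringKrullDim_eq_bot_of_subsingleton]
      exact bot_le⟩⟩
  obtain ⟨n, rfl⟩ : ∃ n : ℕ, i = n := ⟨i.toNat, by omega⟩
  let ω' := ω⟦GrothLib.DualRing.deg hω (IsLocalRing.maximalIdeal R)⟧
  have hω' : Dual.IsDualizing R ω' := GrothLib.DualRing.isDualizing_shift hω _
  have hn : Dual.IsNormalized R ω' := GrothLib.DualRing.isNormalized_shift hω
  obtain ⟨E, _, _, f, hf⟩ := GrothLib.FaltingsT3.exists_hull R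
  obtain ⟨e₁⟩ := Groth.Agent.S11172.result R ω' hω' hn E f hf D n
  obtain ⟨e₂⟩ := GrothLib.ExtCech.nonempty_extCechH_equiv fs n (ModuleCat.of R D)
  rw [hfs] at e₂
  let X := (Dual.inD R D ⟶ ω'⟦(-(n : ℤ))⟧)
  haveI : Module.Finite R X := GrothLib.DualRing.finite_EH hω' D _
  have hbound : ∀ p : PrimeSpectrum R, p ∈ Module.support R X → n ≤ d + 1 →
      ringKrullDim (R ⧸ p.asIdeal) + (2 : ℕ) ≤ (n : WithBot ℕ∞) := by
    intro p hp hnd
    have hs := (Groth.Agent.S1712.result R ω' hω' hn D n p).1 ⟨n, le_rfl, hp⟩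
    have hpD : p ∈ Module.support R D := by
      by_contra hp'
      haveI := Module.notMem_support_iff.1 hp'
      rw [show LocCoh.depth (Localization.AtPrime p.asIdeal) (LocalizedModule p.asIdeal.primeCompl D) = ⊤ by
        rw [LocCoh.depth, LocCoh.idealDepth, if_pos (Subsingleton.elim _ _)]] at hs
      have h2 : ((⊤ : ℕ∞) : WithBot ℕ∞) ≤ ((n : ℕ∞) : WithBot ℕ∞) := by
        refine le_trans (le_add_of_nonneg_right ?_) hs
        exact ringKrullDim_nonneg_of_nontrivial
      exact absurd (WithBot.coe_le_coe.1 h2) (by simp)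
    rcases h p hpD with hd | hd
    · refine le_trans ?_ hs
      rw [add_comm]
      exact add_le_add (WithBot.coe_le_coe.2 hd) le_rfl
    · have := le_trans hd hs
      norm_cast at this
      omega
  have e := e₂.trans ((LinearEquiv.refl R _).trans e₁)
  refine ⟨fun hlt => ?_, fun hle => ⟨Module.annihilator R X, fun k hk x => e.injective ?_, ?_⟩⟩
  · have hX : Subsingleton X := by
      rw [← Module.support_eq_empty_iff (R := R)]
      refine Set.eq_empty_iff_forall_notMem.2 fun p hp => ?_
      have h2 := le_trans (add_le_add (ringKrullDim_nonneg_of_nontrivial (R := R ⧸ p.asIdeal)) le_rfl)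
        (hbound p hp (by omega))
      rw [zero_add] at h2
      norm_cast at h2
      omega
    exact (e.toEquiv.subsingleton_congr).2 ⟨fun a b => LinearMap.ext fun z => by
      rw [Subsingleton.elim z 0, map_zero, map_zero]⟩
  · rw [map_smul, map_zero]
    refine LinearMap.ext fun z => ?_
    rw [LinearMap.smul_apply, ← map_smul, Module.mem_annihilator.1 hk z, map_zero, LinearMap.zero_apply]
  · refine ringKrullDim_quotient_le _ _ fun p hp => ?_
    have h2 := hbound p (Module.mem_support_iff_of_finite.2 hp) (by omega)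
    revert h2
    generalize ringKrullDim (R ⧸ p.asIdeal) = r
    induction r with
    | bot => intro _; exact bot_le
    | coe r =>
      intro h2
      induction r with
      | top =>
        have h3 : (⊤ : ℕ∞) + 2 ≤ (n : ℕ∞) := WithBot.coe_le_coe.1 h2
        rw [top_add, top_le_iff] at h3
        exact absurd h3 (ENat.natCast_ne_top n)
      | coe r =>
        have h3 : r + 2 ≤ n := by
          have := WithBot.coe_le_coe.1 (show (((r + 2 : ℕ) : ℕ∞) : WithBot ℕ∞) ≤ ((n : ℕ∞) : WithBot ℕ∞) from h2)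
          exact Nat.cast_le.1 this
        exact WithBot.coe_le_coe.2 (Nat.cast_le.2 (by omega))

/-- The transition maps of the quotients. -/
noncomputable abbrev tq (I : Ideal R) (M : ModuleCat.{u} R) {n m : ℕ} (h : n ≤ m) :
    RGamma.quotMod I M m ⟶ RGamma.quotMod I M n :=
  ModuleCat.ofHom (Submodule.mapQ (I ^ m • ⊤ : Submodule R M) (I ^ n • ⊤ : Submodule R M) LinearMap.id
    (Submodule.smul_mono (Ideal.pow_le_pow_right h) le_rfl))

theorem mapQ_id_comp {M : Type u} [AddCommGroup M] [Module R M] {a b c : Submodule R M} (h : a ≤ b) (h' : b ≤ c)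
    (x : M ⧸ a) : Submodule.mapQ b c LinearMap.id h' (Submodule.mapQ a b LinearMap.id h x) =
      Submodule.mapQ a c LinearMap.id (h.trans h') x := by
  induction x using Submodule.Quotient.induction_on with
  | _ x => rfl

theorem mapQ_id_self {M : Type u} [AddCommGroup M] [Module R M] {a : Submodule R M} (h : a ≤ a) :
    Submodule.mapQ a a LinearMap.id h = LinearMap.id :=
  Submodule.linearMap_qext _ rfl

theorem tq_comp (I : Ideal R) (M : ModuleCat.{u} R) {n m k : ℕ} (h : n ≤ m) (h' : m ≤ k) :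
    tq I M h' ≫ tq I M h = tq I M (h.trans h') :=
  ModuleCat.hom_ext (LinearMap.ext fun x => mapQ_id_comp (M := M)
    (Submodule.smul_mono (Ideal.pow_le_pow_right h') le_rfl) (Submodule.smul_mono (Ideal.pow_le_pow_right h) le_rfl) x)

/-- **Local vanishing.** -/
theorem exists_homologyMap_eq_zero (ω : Dual.D R) (hω : Dual.IsDualizing R ω) (I : Ideal R)
    (hI : I ≤ IsLocalRing.maximalIdeal R) (d : ℕ) (hcd : LocCoh.CdLE R I d) (D : Type u) [AddCommGroup D]
    [Module R D] [Module.Finite R D]
    (h : ∀ p : PrimeSpectrum R, p ∈ Module.support R D →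
      (2 : ℕ∞) ≤ LocCoh.depth (Localization.AtPrime p.asIdeal) (LocalizedModule p.asIdeal.primeCompl D) ∨
      ((d + 2 : ℕ) : WithBot ℕ∞) ≤ ((LocCoh.depth (Localization.AtPrime p.asIdeal)
        (LocalizedModule p.asIdeal.primeCompl D) : ℕ∞) : WithBot ℕ∞) + ringKrullDim (R ⧸ p.asIdeal))
    (fs : List R) (hfs : Ideal.span {x : R | x ∈ fs} = IsLocalRing.maximalIdeal R) (i : ℕ) (hi : i ≤ 1) (n : ℕ) :
    ∃ (m : ℕ) (hm : n ≤ m),
      HomologicalComplex.homologyMap (ExtCech.cxMap (tq I (ModuleCat.of R D) hm) fs) (i : ℤ) = 0 := by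
  classical
  let M : ModuleCat.{u} R := ModuleCat.of R D
  haveI : Module.Finite R M := inferInstanceAs (Module.Finite R D)
  haveI : DRing.HasDerivedCompletion I := GrothLib.DCpl.hasDerivedCompletion I (IsNoetherian.noetherian I)
  obtain ⟨t, ht⟩ : I.FG := IsNoetherian.noetherian I
  have hfI : Ideal.span {x : R | x ∈ t.toList} = I := by
    rw [show {x : R | x ∈ t.toList} = (t : Set R) by ext; simp]
    exact ht
  have hP : ∀ k : ℤ, (d : ℤ) < k → Subsingleton (Dual.HD R (cechD t.toList) k) := by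
    intro k hk
    obtain ⟨l, rfl⟩ : ∃ l : ℕ, k = l := ⟨k.toNat, by omega⟩
    obtain ⟨g⟩ := GrothLib.ExtCech.nonempty_extCechH_equiv t.toList l (ModuleCat.of R R)
    rw [hfI] at g
    haveI : Subsingleton ((localCohomology I l).obj (ModuleCat.of R R)) := hcd R l (by omega)
    exact ((RGamma.hdEquiv _ _).trans g).toEquiv.subsingleton
  let C := extCech M fs
  have hvan : Van t.toList (DerivedCategory.Q.obj C) (i : ℤ) := by
    refine van_of_pieces I hI t.toList hfI d hP i (by omega) fs.length _ (fun k hk => ?_) fun k => ?_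
    · haveI := ModuleCat.subsingleton_of_isZero (ExtCech.isZero_H fs M k (Or.inr (by omega)))
      exact (RGamma.hdEquiv C k).toEquiv.subsingleton
    · let g : Dual.HD R (DerivedCategory.Q.obj C) k ≃ₗ[R] extCechH fs M k := RGamma.hdEquiv C k
      obtain ⟨h1, h2⟩ := piece_extCech ω hω fs hfs d D h k
      refine ⟨fun hk => (haveI := h1 hk; g.toEquiv.subsingleton), fun hk => ?_⟩
      obtain ⟨K, hK, hd⟩ := h2 hk
      exact ⟨K, fun a ha x => g.injective (by rw [map_smul, map_zero]; exact hK a ha _), hd⟩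
  have hhat : Subsingleton ((RGamma.hatCx I C).homology (i : ℤ)) := by
    obtain ⟨h1, h2⟩ := RGamma.isHatGood_extCech I fs M
    obtain ⟨e, -⟩ := RGamma.exists_iso_of_isCEquiv I (DerivedCategory.Q.map (RGamma.toHat I C)) h1 h2
    haveI := (subsingleton_completion_iff I t.toList hfI (DerivedCategory.Q.obj C) i).2 hvan
    exact ((RGamma.hdIso e i).trans (RGamma.hdEquiv _ _)).toEquiv.symm.subsingleton
  have hse := RGamma.rlimSC_shortExact I fs M
  have hinj : Function.Injective (HomologicalComplex.homologyMap (RGamma.shiftMap I fs M) (i : ℤ)).hom := by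
    refine (injective_iff_map_eq_zero _).2 fun z hz => ?_
    obtain ⟨w, hw⟩ := (ShortComplex.moduleCat_exact_iff _).1 (hse.homology_exact₂ (i : ℤ)) z hz
    rw [Subsingleton.elim (α := (RGamma.hatCx I C).homology (i : ℤ)) w 0, map_zero] at hw
    exact hw.symm
  let X : ℕ → Type u := fun m => extCechH fs (RGamma.quotMod I M m) (i : ℤ)
  let F : ModuleCat.{u} R ⥤ ModuleCat.{u} R :=
    SGA2Fin.cxF fs ⋙ HomologicalComplex.homologyFunctor _ _ (i : ℤ)
  refine (exists_transition_eq_zero X (fun {a b} hab => (F.map (tq I M hab)).hom) ?_ ?_ ?_ ?_ n).imp fun m hm => ?_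
  · intro a x
    rw [show tq I M (le_refl a) = 𝟙 _ from ModuleCat.hom_ext (mapQ_id_self (M := M) le_rfl),
      CategoryTheory.Functor.map_id]
    rfl
  · intro a b c hab hbc x
    rw [← tq_comp I M hab hbc, CategoryTheory.Functor.map_comp]
    rfl
  · intro a
    obtain ⟨g⟩ := GrothLib.ExtCech.nonempty_extCechH_equiv fs i (RGamma.quotMod I M a)
    rw [hfs] at g
    haveI : IsArtinian R ((localCohomology (IsLocalRing.maximalIdeal R) i).obj (RGamma.quotMod I M a)) :=
      GrothLib.LC.isArtinian_H_maximal i (M ⧸ (I ^ a • ⊤ : Submodule R M))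
    exact g.symm.isArtinian_iff.1 inferInstance
  · intro y hy a
    let D' := RGamma.redCx I fs M
    have hπ := BCCoh.bijective_homologyMap_of_bijective (C := RGamma.piCx D') (J := ULift.{u} ℕ) (fun n => D' n.down)
      (fun n => RGamma.piProj D' n.down) (fun k => ⟨fun x y h => funext fun n => congrFun h ⟨n⟩,
        fun y => ⟨fun n => y ⟨n⟩, rfl⟩⟩) (i : ℤ)
    obtain ⟨z, hz⟩ := hπ.2 fun n => y n.down
    have hz' : ∀ n, (HomologicalComplex.homologyMap (RGamma.piProj D' n) (i : ℤ)).hom z = y n :=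
      fun n => congrFun hz ⟨n⟩
    have h0 : (HomologicalComplex.homologyMap (RGamma.shiftMap I fs M) (i : ℤ)).hom z = 0 := by
      refine hπ.1 (funext fun n => ?_)
      have hc : RGamma.shiftMap I fs M ≫ RGamma.piProj D' n.down = RGamma.piProj D' n.down -
          RGamma.piProj D' (n.down + 1) ≫ ExtCech.cxMap (RGamma.quotT I M n.down) fs := rfl
      have h1 := congrArg (fun φ : RGamma.piCx D' ⟶ D' n.down => (HomologicalComplex.homologyMap φ (i : ℤ)).hom z) hc
      simp only [HomologicalComplex.homologyMap_comp, HomologicalComplex.homologyMap_sub, ModuleCat.hom_sub,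
        ModuleCat.hom_comp, LinearMap.sub_apply, LinearMap.comp_apply] at h1
      rw [hz', hz'] at h1
      refine h1.trans ((sub_eq_zero.2 ?_).trans (map_zero _).symm)
      exact (hy n.down).symm
    rw [← hz' a, hinj (h0.trans (map_zero _).symm), map_zero]
  · obtain ⟨hnm, hm⟩ := hm
    exact ⟨hnm, ModuleCat.hom_ext (LinearMap.ext hm)⟩

end GrothLib.FSecDual7
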