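import Groth.Agent.Lib.ExtCech.Functorial
import Groth.Agent.Lib.SGA2Fin.CechFunctor
import Mathlib.Algebra.Homology.HomologySequence
import Mathlib.RingTheory.Noetherian.Basic

/-!
# Extending elements across the closed point when the maps of `H^0` and `H^1` vanish
-/

set_option autoImplicit false
set_option linter.style.haveILetI false
universe u

open CategoryTheory CategoryTheory.Limits CochainComplex DerCA GrothLib.ExtCech

namespace GrothLib.FSecDual7

variable {R : Type u} [CommRing R] (fs : List R)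

/-- Power torsion for a list of elements. -/
def IsListTorsion {N : Type u} [AddCommGroup N] [Module R N] (x : N) : Prop :=
  ∀ f ∈ fs, ∃ k : ℕ, f ^ k • x = 0

/-- The Čech complex of a module of torsion elements is concentrated in degree `0`. -/
theorem subsingleton_X_of_torsion (K : ModuleCat.{u} R) (hK : ∀ x : K, IsListTorsion fs x) :
    ∀ gs : List R, (∀ g ∈ gs, g ∈ fs) → ∀ p : ℤ,
      (∀ x : (extCech K gs).X p, IsListTorsion fs x) ∧ (p ≠ 0 → Subsingleton ((extCech K gs).X p)) := by
  intro gs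
  induction gs with
  | nil =>
    intro _ p
    by_cases hp : p = 0
    · subst hp
      let e := (HomologicalComplex.singleObjXSelf (ComplexShape.up ℤ) 0 K).toLinearEquiv
      refine ⟨fun x f hf => ?_, fun h => absurd rfl h⟩
      obtain ⟨k, hk⟩ := hK (e x) f hf
      exact ⟨k, e.injective ((map_smul e _ x).trans (hk.trans (map_zero e).symm))⟩
    · haveI : Subsingleton ((extCech K []).X p) :=
        ModuleCat.subsingleton_of_isZero (HomologicalComplex.isZero_single_obj_X _ _ _ _ hp)
      exact ⟨fun x f _ => ⟨0, Subsingleton.elim _ _⟩, fun _ => inferInstance⟩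
  | cons f gs ih =>
    intro hgs p
    have ih' := ih fun g hg => hgs g (List.mem_cons_of_mem _ hg)
    let φ := locCxUnit (Submonoid.powers f) (extCech K gs)
    haveI hL : Subsingleton (((locCx (Submonoid.powers f)).obj (extCech K gs)).X (p - 1)) := by
      refine subsingleton_of_forall_eq 0 fun z => ?_
      change LocalizedModule (Submonoid.powers f) ((extCech K gs).X (p - 1)) at z
      induction z using LocalizedModule.induction_on with
      | h x s =>
        obtain ⟨k, hk⟩ := (ih' (p - 1)).1 x f (hgs f List.mem_cons_self)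
        change LocalizedModule.mk x s = (0 : LocalizedModule (Submonoid.powers f) _)
        rw [← LocalizedModule.zero_mk (1 : Submonoid.powers f), LocalizedModule.mk_eq]
        exact ⟨⟨f ^ k, k, rfl⟩, by simp [Submonoid.smul_def, hk]⟩
    have hinj : Function.Injective ((mappingCocone.fst φ).f p).hom := fun a b hab =>
      cocone_ext_apply φ hab (Subsingleton.elim _ _)
    refine ⟨fun x g hg => ?_, fun hp => ?_⟩
    · obtain ⟨k, hk⟩ := (ih' p).1 (((mappingCocone.fst φ).f p).hom x) g hg
      exact ⟨k, hinj ((map_smul _ _ x).trans (hk.trans (map_zero _).symm))⟩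
    · haveI := (ih' p).2 hp
      exact hinj.subsingleton

variable {N' N : ModuleCat.{u} R} (ψ : N' ⟶ N)

/-- Vanishing on `H^0` kills torsion elements. -/
theorem map_eq_zero_of_torsion (h0 : HomologicalComplex.homologyMap (cxMap ψ fs) 0 = 0) (x : N')
    (hx : IsListTorsion fs x) : ψ.hom x = 0 := by
  obtain ⟨z, hz⟩ := ((aug_injective_and_range N' fs).2 x).2 hx
  rw [← hz, ← aug_naturality_apply ψ fs z, h0]
  exact map_zero _

/-- Vanishing on `H^1` gives extension across the closed point. -/
theorem mem_range_of_pow_smul (h1 : HomologicalComplex.homologyMap (cxMap ψ fs) 1 = 0)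
    {G' G : Type u} [AddCommGroup G'] [Module R G'] [AddCommGroup G] [Module R G]
    (j' : N' →ₗ[R] G') (j : N →ₗ[R] G) (Ψ : G' →ₗ[R] G) (hj : ∀ x, Ψ (j' x) = j (ψ.hom x))
    (hker : ∀ x, j' x = 0 → IsListTorsion fs x) (hG : ∀ g : G, IsListTorsion fs g → g = 0)
    (y : G') (hy : ∀ f ∈ fs, ∃ k : ℕ, f ^ k • y ∈ LinearMap.range j') :
    Ψ y ∈ LinearMap.range j := by
  classical
  -- the extensions
  let P' : Submodule R G' := LinearMap.range j'
  let E' : Submodule R G' := P' ⊔ Submodule.span R {y}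
  let P : Submodule R G := LinearMap.range j
  let E : Submodule R G := P ⊔ Submodule.span R {Ψ y}
  let a' : P' →ₗ[R] E' := Submodule.inclusion le_sup_left
  let a : P →ₗ[R] E := Submodule.inclusion le_sup_left
  let S' : ShortComplex (ModuleCat.{u} R) := ShortComplex.mk (ModuleCat.ofHom a') (ModuleCat.ofHom (LinearMap.range a').mkQ)
    (ModuleCat.hom_ext (LinearMap.ext fun x => (Submodule.Quotient.mk_eq_zero _).2 ⟨x, rfl⟩))
  let S : ShortComplex (ModuleCat.{u} R) := ShortComplex.mk (ModuleCat.ofHom a) (ModuleCat.ofHom (LinearMap.range a).mkQ)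
    (ModuleCat.hom_ext (LinearMap.ext fun x => (Submodule.Quotient.mk_eq_zero _).2 ⟨x, rfl⟩))
  have hS : ∀ {A B : Type u} [AddCommGroup A] [Module R A] [AddCommGroup B] [Module R B] (g : A →ₗ[R] B)
      (_ : Function.Injective g) (w : ModuleCat.ofHom g ≫ ModuleCat.ofHom (LinearMap.range g).mkQ = 0),
      (ShortComplex.mk (ModuleCat.ofHom g) (ModuleCat.ofHom (LinearMap.range g).mkQ) w).ShortExact := by
    intro A B _ _ _ _ g hg w
    exact { exact := (ShortComplex.moduleCat_exact_iff _).2 fun x hx => (Submodule.Quotient.mk_eq_zero _).1 hx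
            mono_f := (ModuleCat.mono_iff_injective _).2 hg
            epi_g := (ModuleCat.epi_iff_surjective _).2 (Submodule.mkQ_surjective _) }
  have hS' : S'.ShortExact := hS a' (Submodule.inclusion_injective _) _
  have hSS : S.ShortExact := hS a (Submodule.inclusion_injective _) _
  have hΨP : ∀ z ∈ P', Ψ z ∈ P := by
    rintro _ ⟨x, rfl⟩
    exact ⟨ψ.hom x, (hj x).symm⟩
  have hΨE : ∀ z ∈ E', Ψ z ∈ E := by
    have : E' ≤ E.comap Ψ := sup_le (fun z hz => Submodule.mem_sup_left (hΨP z hz))
      ((Submodule.span_singleton_le_iff_mem _ _).2 (Submodule.mem_sup_right (Submodule.mem_span_singleton_self _)))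
    exact fun z hz => this hz
  let t₁ : P' →ₗ[R] P := Ψ.restrict hΨP
  let t₂ : E' →ₗ[R] E := Ψ.restrict hΨE
  have ht : LinearMap.range a' ≤ (LinearMap.range a).comap t₂ := by
    rintro _ ⟨z, rfl⟩
    exact ⟨t₁ z, rfl⟩
  let Φ : S' ⟶ S := ShortComplex.homMk (ModuleCat.ofHom t₁) (ModuleCat.ofHom t₂)
    (ModuleCat.ofHom (Submodule.mapQ _ _ t₂ ht)) rfl rfl
  -- the map on `H^1` of the images vanishes
  have hP : HomologicalComplex.homologyMap (cxMap (ModuleCat.ofHom t₁ : S'.X₁ ⟶ S.X₁) fs) 1 = 0 := by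
    let π' : N' ⟶ ModuleCat.of R P' := ModuleCat.ofHom j'.rangeRestrict
    let π : N ⟶ ModuleCat.of R P := ModuleCat.ofHom j.rangeRestrict
    have hsq : π' ≫ ModuleCat.ofHom t₁ = ψ ≫ π := ModuleCat.hom_ext (LinearMap.ext fun x => Subtype.ext (hj x))
    let K : ShortComplex (ModuleCat.{u} R) := ShortComplex.mk
      (ModuleCat.ofHom (LinearMap.ker j').subtype : ModuleCat.of R (LinearMap.ker j') ⟶ N') π'
      (ModuleCat.hom_ext (LinearMap.ext fun x => Subtype.ext x.2))
    have hK : K.ShortExact :=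
      { exact := (ShortComplex.moduleCat_exact_iff _).2 fun x hx => ⟨⟨x, congrArg Subtype.val hx⟩, rfl⟩
        mono_f := (ModuleCat.mono_iff_injective _).2 Subtype.val_injective
        epi_g := (ModuleCat.epi_iff_surjective _).2 j'.surjective_rangeRestrict }
    have hz : IsZero (((cxShort fs K).X₁).homology 2) := by
      refine HomologicalComplex.ExactAt.isZero_homology (ShortComplex.exact_of_isZero_X₂ _ ?_)
      rw [ModuleCat.isZero_iff_subsingleton]
      exact ((subsingleton_X_of_torsion fs (ModuleCat.of R (LinearMap.ker j'))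
        (fun x f hf => (hker x.1 x.2 f hf).imp fun k hk => Subtype.ext hk) fs (fun g hg => hg)) 2).2 (by omega)
    have hepi : Epi (HomologicalComplex.homologyMap (cxMap π' fs) 1) := by
      have h := (cxShort_shortExact hK fs).homology_exact₃ 1 2 (by simp)
      exact h.epi_f (hz.eq_of_tgt _ _)
    refine (cancel_epi (HomologicalComplex.homologyMap (cxMap π' fs) 1)).1 ?_
    rw [comp_zero]
    have hF : ∀ {A B C : ModuleCat.{u} R} (g : A ⟶ B) (g' : B ⟶ C),
        HomologicalComplex.homologyMap (cxMap (g ≫ g') fs) 1 =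
          HomologicalComplex.homologyMap (cxMap g fs) 1 ≫ HomologicalComplex.homologyMap (cxMap g' fs) 1 := by
      intro A B C g g'
      rw [← HomologicalComplex.homologyMap_comp]
      exact congrArg (fun φ => HomologicalComplex.homologyMap φ 1) ((GrothLib.SGA2Fin.cxF fs).map_comp g g')
    rw [← hF, hsq, hF, h1, zero_comp]
  -- the class of `y`
  let ey : S'.X₂ := ⟨y, Submodule.mem_sup_right (Submodule.mem_span_singleton_self y)⟩
  have hc : IsListTorsion fs (S'.g.hom ey) := by
    intro f hf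
    obtain ⟨k, hk⟩ := hy f hf
    exact ⟨k, ((map_smul S'.g.hom _ ey).symm).trans ((Submodule.Quotient.mk_eq_zero _).2 ⟨⟨_, hk⟩, rfl⟩)⟩
  obtain ⟨c, hc'⟩ := ((aug_injective_and_range S'.X₃ fs).2 _).2 hc
  have hC := cxShort_shortExact hS' fs
  have hC' := cxShort_shortExact hSS fs
  let CΦ : cxShort fs S' ⟶ cxShort fs S := ShortComplex.homMk (cxMap Φ.τ₁ fs) (cxMap Φ.τ₂ fs) (cxMap Φ.τ₃ fs)
    (((GrothLib.SGA2Fin.cxF fs).map_comp _ _).symm.trans ((congrArg (fun g => cxMap g fs) Φ.comm₁₂).trans
      ((GrothLib.SGA2Fin.cxF fs).map_comp _ _)))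
    (((GrothLib.SGA2Fin.cxF fs).map_comp _ _).symm.trans ((congrArg (fun g => cxMap g fs) Φ.comm₂₃).trans
      ((GrothLib.SGA2Fin.cxF fs).map_comp _ _)))
  have hδ := HomologicalComplex.HomologySequence.δ_naturality CΦ hC hC' 0 1 (by simp)
  have h2 : (hC'.δ 0 1 (by simp)).hom ((HomologicalComplex.homologyMap (cxMap Φ.τ₃ fs) 0).hom c) = 0 := by
    have h3 := ConcreteCategory.congr_hom hδ c
    rw [show HomologicalComplex.homologyMap CΦ.τ₁ 1 = 0 from hP] at h3
    exact h3.symm.trans (by simp)
  obtain ⟨e, he⟩ := (ShortComplex.moduleCat_exact_iff _).1 (hC'.homology_exact₃ 0 1 (by simp)) _ h2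
  have he0 : e = 0 := by
    refine (aug_injective_and_range S.X₂ fs).1 ((Subtype.ext ?_).trans (map_zero _).symm)
    refine hG _ fun f hf => ?_
    obtain ⟨k, hk⟩ := ((aug_injective_and_range S.X₂ fs).2 ((aug S.X₂ fs).hom e)).1 ⟨e, rfl⟩ f hf
    exact ⟨k, congrArg Subtype.val hk⟩
  rw [he0, map_zero] at he
  have h4 : Φ.τ₃.hom (S'.g.hom ey) = 0 := by
    rw [← hc', ← aug_naturality_apply Φ.τ₃ fs c, show (HomologicalComplex.homologyMap (cxMap Φ.τ₃ fs) 0).hom c = 0 from he.symm,
      map_zero]
  obtain ⟨p, hp⟩ := (Submodule.Quotient.mk_eq_zero _).1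
    (h4 : (Submodule.Quotient.mk (t₂ ey) : _ ⧸ LinearMap.range a) = 0)
  have := congrArg Subtype.val hp
  rw [show ((t₂ ey : E) : G) = Ψ y from rfl] at this
  rw [← this]
  exact p.2

end GrothLib.FSecDual7
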