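import Groth.Agent.Lib.FSecDual7.Step
import Groth.Agent.Lib.FSecDual7.Local
import Groth.Agent.Lib.SkExt.Basic
import Groth.Agent.Lib.Formal2Chase7.Basic
import Groth.Agent.S0379

/-!
# Formal sections across the points of `V(𝔞)`: depth and dimension criterion
-/

set_option autoImplicit false
set_option linter.style.haveILetI false
set_option linter.unusedSectionVars false

universe u

open CategoryTheory AlgebraicGeometry Opposite TopologicalSpace Formal2 GrothLib.ColimSec7 GrothLib.ExtCech
open GrothLib.Formal2Chase7 (tr)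

attribute [local instance] HasDerivedCategory.standard

noncomputable section

namespace GrothLib.FSecDual7

variable {A : Type u} [CommRing A] [IsNoetherianRing A] (q : PrimeSpectrum A)

/-- The depth and dimension condition at a point. -/
def Cond (d : ℕ) (M : Type u) [AddCommGroup M] [Module A M] : Prop :=
  ∀ p : PrimeSpectrum A, p ≤ q → p ∈ Module.support A M →
    (2 : ℕ∞) ≤ LocCoh.depth (Localization.AtPrime p.asIdeal) (LocalizedModule p.asIdeal.primeCompl M) ∨
    ((d + 2 : ℕ) : WithBot ℕ∞) ≤ ((LocCoh.depth (Localization.AtPrime p.asIdeal)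
      (LocalizedModule p.asIdeal.primeCompl M) : ℕ∞) : WithBot ℕ∞) + Formal2.dimBetween A p.asIdeal q.asIdeal

variable {M : Type u} [AddCommGroup M] [Module A M] [Module.Finite A M]

/-- Localising twice. -/
theorem exists_equiv_localized_localized (P : PrimeSpectrum (Rat' q)) :
    ∃ (σ : Localization.AtPrime (Ideal.comap (algebraMap A (Rat' q)) P.asIdeal) ≃+* Localization.AtPrime P.asIdeal)
      (e : LocalizedModule (Ideal.comap (algebraMap A (Rat' q)) P.asIdeal).primeCompl M ≃+
        LocalizedModule P.asIdeal.primeCompl (L q M)), ∀ r x, e (r • x) = σ r • e x := by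
  let R := A
  let T := Rat' q
  let Q := P.asIdeal
  let N := L q M
  let S := q.asIdeal.primeCompl
  let g : M →ₗ[R] N := ι q M
  let TQ := Localization.AtPrime Q
  let q' := Q.comap (algebraMap R T)
  let Rq := Localization.AtPrime q'
  let NQ := LocalizedModule Q.primeCompl N
  haveI : IsLocalization.AtPrime TQ q' :=
    IsLocalization.isLocalization_isLocalization_atPrime_isLocalization S TQ Q
  haveI : IsScalarTower R TQ NQ := IsScalarTower.of_algebraMap_smul fun r x => by
    rw [IsScalarTower.algebraMap_apply R T TQ, algebraMap_smul, algebraMap_smul]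
  let f : M →ₗ[R] NQ := (LocalizedModule.mkLinearMap Q.primeCompl N).restrictScalars R ∘ₗ g
  haveI : IsLocalizedModule q'.primeCompl f := by
    refine (isLocalizedModule_iff_isBaseChange q'.primeCompl TQ f).2 ?_
    exact (IsLocalizedModule.isBaseChange S T g).comp (IsLocalizedModule.isBaseChange Q.primeCompl TQ _)
  let e : LocalizedModule q'.primeCompl M ≃ₗ[R] NQ := IsLocalizedModule.iso q'.primeCompl f
  let σ : Rq ≃ₐ[R] TQ := IsLocalization.algEquiv q'.primeCompl _ _
  refine ⟨σ.toRingEquiv, e.toAddEquiv, fun r x => ?_⟩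
  obtain ⟨a, s, rfl⟩ := IsLocalization.exists_mk'_eq q'.primeCompl r
  apply ((IsLocalization.map_units TQ s).smul_left_cancel).1
  have h1 : algebraMap R Rq (s : R) * IsLocalization.mk' Rq a s = algebraMap R Rq a :=
    IsLocalization.mk'_spec' _ a s
  calc algebraMap R TQ s • e (IsLocalization.mk' Rq a s • x)
      = (s : R) • e (IsLocalization.mk' Rq a s • x) := algebraMap_smul _ _ _
    _ = e ((s : R) • IsLocalization.mk' Rq a s • x) := (e.map_smul _ _).symm
    _ = e (a • x) := by rw [← algebraMap_smul Rq (s : R) (IsLocalization.mk' Rq a s • x), smul_smul, h1,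
          algebraMap_smul]
    _ = a • e x := e.map_smul _ _
    _ = σ (algebraMap R Rq a) • e x := by rw [σ.commutes, algebraMap_smul]
    _ = _ := by
      rw [← h1, map_mul, σ.commutes, mul_smul]
      rfl

theorem cond_local {d : ℕ} (hc : Cond q d M) (P : PrimeSpectrum (Rat' q))
    (hP : P ∈ Module.support (Rat' q) (L q M)) :
    (2 : ℕ∞) ≤ LocCoh.depth (Localization.AtPrime P.asIdeal) (LocalizedModule P.asIdeal.primeCompl (L q M)) ∨
    ((d + 2 : ℕ) : WithBot ℕ∞) ≤ ((LocCoh.depth (Localization.AtPrime P.asIdeal)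
      (LocalizedModule P.asIdeal.primeCompl (L q M)) : ℕ∞) : WithBot ℕ∞) + ringKrullDim (Rat' q ⧸ P.asIdeal) := by
  obtain ⟨σ, e, he⟩ := exists_equiv_localized_localized (M := M) q P
  let p : PrimeSpectrum A := ⟨Ideal.comap (algebraMap A (Rat' q)) P.asIdeal, Ideal.IsPrime.comap _⟩
  have hpq : p ≤ q := fun a ha => by
    by_contra haq
    exact P.isPrime.ne_top (Ideal.eq_top_of_isUnit_mem _ ha
      (IsLocalization.map_units (Rat' q) (⟨a, haq⟩ : q.asIdeal.primeCompl)))
  have hp : p ∈ Module.support A M := by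
    rw [Module.mem_support_iff] at hP ⊢
    exact e.toEquiv.nontrivial
  have hd : LocCoh.depth (Localization.AtPrime P.asIdeal) (LocalizedModule P.asIdeal.primeCompl (L q M)) =
      LocCoh.depth (Localization.AtPrime p.asIdeal) (LocalizedModule p.asIdeal.primeCompl M) :=
    (GrothLib.SkExt.depth_congr_semilinear σ e he).symm
  have hdim : Formal2.dimBetween A p.asIdeal q.asIdeal = ringKrullDim (Rat' q ⧸ P.asIdeal) := by
    have hmap : p.asIdeal.map (algebraMap A (Rat' q)) = P.asIdeal :=
      IsLocalization.map_under q.asIdeal.primeCompl (Rat' q) P.asIdeal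
    unfold Formal2.dimBetween
    rw [hmap]
  rw [hd, ← hdim]
  exact hc p hpq hp

/-- The localisation of the quotients. -/
theorem exists_quot_equiv (I : Ideal A) (n : ℕ) :
    ∃ e : L q (quotPow A I M n) ≃ₗ[Rat' q]
        RGamma.quotMod (I.map (algebraMap A (Rat' q))) (ModuleCat.of (Rat' q) (L q M)) (n + 1),
      ∀ u, e (lmR q (quotPowπ A I M n) u) = Submodule.Quotient.mk u := by
  let R := Rat' q
  let P : Submodule R (L q M) := I.map (algebraMap A R) ^ (n + 1) • ⊤
  let π : L q M →ₗ[R] L q (quotPow A I M n) := lmR q (quotPowπ A I M n)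
  have hsurj : Function.Surjective π := by
    intro v
    obtain ⟨c, s, hs, hv⟩ := exists_frac q v
    obtain ⟨c', rfl⟩ := Submodule.Quotient.mk_surjective _ c
    refine ⟨LocalizedModule.mk c' (⟨s, hs⟩ : q.asIdeal.primeCompl), smul_cancel q hs ?_⟩
    show s • lm q (quotPowπ A I M n) _ = _
    rw [← map_smul, LocalizedModule.smul'_mk,
      show LocalizedModule.mk (s • c') (⟨s, hs⟩ : q.asIdeal.primeCompl) = ι q M c' from
        LocalizedModule.mk_cancel (⟨s, hs⟩ : q.asIdeal.primeCompl) c', lm_ι, hv]
    rfl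
  have hk : LinearMap.ker π = P := by
    apply le_antisymm
    · intro u hu
      obtain ⟨c, s, hs, hcu⟩ := exists_frac q u
      have h0 : ι q (quotPow A I M n) (quotPowπ A I M n c) = 0 := by
        rw [← lm_ι, ← hcu, map_smul, show lm q (quotPowπ A I M n) u = 0 from hu, smul_zero]
      obtain ⟨⟨b, hb⟩, hbc⟩ := (IsLocalizedModule.eq_zero_iff q.asIdeal.primeCompl _).1 h0
      have hmem : b • c ∈ (I ^ (n + 1) • ⊤ : Submodule A M) := by
        rw [← Submodule.Quotient.mk_eq_zero]
        exact hbc
      have hι : ∀ x ∈ (I ^ (n + 1) • ⊤ : Submodule A M), ι q M x ∈ P := by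
        intro x hx
        refine Submodule.smul_induction_on hx (fun a ha y _ => ?_) fun y z hy hz => ?_
        · rw [map_smul, ← algebraMap_smul R a (ι q M y)]
          exact Submodule.smul_mem_smul (by rw [← Ideal.map_pow]; exact Ideal.mem_map_of_mem _ ha) trivial
        · rw [map_add]; exact add_mem hy hz
      have h1 := hι _ hmem
      rw [map_smul, ← hcu, ← mul_smul, ← algebraMap_smul R (b * s) u] at h1
      obtain ⟨v, hv⟩ := IsLocalization.map_units R (⟨b * s, q.asIdeal.primeCompl.mul_mem hb hs⟩ : q.asIdeal.primeCompl)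
      rw [show algebraMap A R (b * s) = (v : R) from hv.symm] at h1
      have h2 := P.smul_mem (↑v⁻¹ : R) h1
      rwa [smul_smul, Units.inv_mul, one_smul] at h2
    · refine Submodule.smul_le.2 fun r hr u _ => ?_
      rw [LinearMap.mem_ker, map_smul]
      have hle : I.map (algebraMap A R) ^ (n + 1) ≤ Module.annihilator R (L q (quotPow A I M n)) := by
        rw [← Ideal.map_pow, Ideal.map_le_iff_le_comap]
        intro a ha
        refine Module.mem_annihilator.2 fun v => ?_
        obtain ⟨c, s, hs, hv⟩ := exists_frac q v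
        obtain ⟨c', rfl⟩ := Submodule.Quotient.mk_surjective _ c
        rw [algebraMap_smul]
        refine smul_cancel q hs ?_
        rw [smul_comm, hv, ← map_smul, smul_zero, ← Submodule.Quotient.mk_smul,
          (Submodule.Quotient.mk_eq_zero _).2 (Submodule.smul_mem_smul (N := (⊤ : Submodule A M)) ha Submodule.mem_top), map_zero]
      exact Module.mem_annihilator.1 (hle hr) _
  refine ⟨(LinearMap.quotKerEquivOfSurjective π hsurj).symm.trans (Submodule.quotEquivOfEq _ _ hk), fun u => ?_⟩
  change Submodule.quotEquivOfEq _ _ hk ((LinearMap.quotKerEquivOfSurjective π hsurj).symm (π u)) = _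
  rw [show π u = LinearMap.quotKerEquivOfSurjective π hsurj (Submodule.Quotient.mk u) from rfl,
    LinearEquiv.symm_apply_apply]
  rfl

/-- **Pro-zero at a point.** -/
theorem exists_lmR_tr_eq_zero (I : Ideal A) (hI : I ≤ q.asIdeal) (hω : ∃ ω : Dual.D A, Dual.IsDualizing A ω) (d : ℕ)
    (hd : LocCoh.CdLE A I d) (hc : Cond q d M) (fs : List (Rat' q))
    (hfs : Ideal.span {x | x ∈ fs} = IsLocalRing.maximalIdeal (Rat' q)) (i : ℕ) (hi : i ≤ 1) (n : ℕ) :
    ∃ (m : ℕ) (hm : n ≤ m),
      HomologicalComplex.homologyMap (cxMap (ModuleCat.ofHom (lmR q (tr I M hm))) fs) (i : ℤ) = 0 := by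
  obtain ⟨ω, hω⟩ := hω
  obtain ⟨ω', hω', -, -⟩ := GrothLib.FaltingsT3.exists_localized_EH_equiv hω q M
  let R := Rat' q
  haveI : Module.Finite R (L q M) := Module.Finite.of_isLocalizedModule q.asIdeal.primeCompl (ι q M)
  have hI' : I.map (algebraMap A R) ≤ IsLocalRing.maximalIdeal R := by
    rw [← Localization.AtPrime.map_eq_maximalIdeal]
    exact Ideal.map_mono hI
  obtain ⟨m, hm, h⟩ := exists_homologyMap_eq_zero ω' hω' (I.map (algebraMap A R)) hI' d
    ((Groth.Agent.S0379.result A R I d).1 hd) (L q M) (cond_local q hc) fs hfs i hi (n + 1)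
  obtain ⟨m, rfl⟩ : ∃ k, m = k + 1 := ⟨m - 1, by omega⟩
  have hnm : n ≤ m := by omega
  obtain ⟨e, he⟩ := exists_quot_equiv (M := M) q I m
  obtain ⟨e', he'⟩ := exists_quot_equiv (M := M) q I n
  refine ⟨m, hnm, ?_⟩
  have hfac : (ModuleCat.ofHom (lmR q (tr I M hnm)) : ModuleCat.of R (L q (quotPow A I M m)) ⟶ ModuleCat.of R (L q (quotPow A I M n))) =
      e.toModuleIso.hom ≫ tq (I.map (algebraMap A R)) (ModuleCat.of R (L q M)) hm ≫ e'.toModuleIso.inv := by
    refine ModuleCat.hom_ext (LinearMap.ext fun v => ?_)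
    obtain ⟨w, hw⟩ : ∃ w, lmR q (quotPowπ A I M m) w = v := by
      obtain ⟨w, hw⟩ := Submodule.Quotient.mk_surjective _ (e v)
      exact ⟨w, e.injective ((he w).trans hw)⟩
    subst hw
    have h1 : e' (lmR q (tr I M hnm) (lmR q (quotPowπ A I M m) w)) = e' (lmR q (quotPowπ A I M n) w) := by
      congr 1
      show lm q (tr I M hnm) (lm q (quotPowπ A I M m) w) = lm q (quotPowπ A I M n) w
      rw [lm_comp]
      congr 2
    apply e'.injective
    change e' (lmR q (tr I M hnm) (lmR q (quotPowπ A I M m) w)) =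
      e' (e'.symm ((tq (I.map (algebraMap A R)) (ModuleCat.of R (L q M)) hm).hom (e (lmR q (quotPowπ A I M m) w))))
    rw [h1, he', LinearEquiv.apply_symm_apply, he]
    rfl
  rw [hfac]
  let F := GrothLib.SGA2Fin.cxF fs ⋙ HomologicalComplex.homologyFunctor _ _ (i : ℤ)
  change F.map _ = 0
  rw [Functor.map_comp, Functor.map_comp, show F.map (tq (I.map (algebraMap A R)) (ModuleCat.of R (L q M)) hm) = 0 from h,
    Limits.zero_comp, Limits.comp_zero]

end GrothLib.FSecDual7
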