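import Groth.Agent.Lib.FSecDual7.Global
import Groth.Agent.Lib.FSecDual7.Model
import Groth.Agent.Lib.ColimSec7.Main
import Groth.Agent.Lib.LC.FiniteH1

/-!
# Surjectivity of the comparison from the colimit: reduction to torsion-free modules over `A ⧸ p`
-/

set_option autoImplicit false
set_option linter.style.haveILetI false
set_option linter.unusedSectionVars false

universe u

open CategoryTheory AlgebraicGeometry Opposite TopologicalSpace Formal2 GrothLib.ColimSec7
open GrothLib.Formal2Chase7 (tr quotMap)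

attribute [local instance] HasDerivedCategory.standard

noncomputable section

namespace GrothLib.FSecDual7

variable {A : Type u} [CommRing A] [IsNoetherianRing A] {I : Ideal A} {U : (Spec (CommRingCat.of A)).Opens}
variable {M : Type u} [AddCommGroup M] [Module A M] [Module.Finite A M]

theorem admissible_self : Admissible A I U U := ⟨le_rfl, fun _ hp _ => hp⟩

theorem r_self {N : Type u} [AddCommGroup N] [Module A N] {V : (Spec (CommRingCat.of A)).Opens} (h : V ≤ V)
    (s : S N V) : r N h s = s := section_ext fun _ hq => germ_r h hq s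

/-- The condition at the points outside `U` gives surjectivity. -/
theorem surj_of_cond [IsAdicComplete I A] (hω : ∃ ω : Dual.D A, Dual.IsDualizing A ω) (d : ℕ)
    (hd : LocCoh.CdLE A I d) (hU : ∀ q : PrimeSpectrum A, q ∉ U → I ≤ q.asIdeal ∧ Cond q d M) : Surj I U M := by
  intro y hy
  obtain ⟨m, hm⟩ := exists_element I U y hω d hd hU hy
  exact ⟨U, admissible_self, t M U m, fun n => by rw [r_self, mp_t, hm n]⟩

/-- A module all whose formal sections on `U` vanish. -/
theorem surj_of_forall_zero (h : ∀ n (q : PrimeSpectrum A), q ∈ U → ∀ c : L q (quotPow A I M n), c = 0) :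
    Surj I U M := fun y _ =>
  ⟨U, admissible_self, 0, fun n => section_ext fun q hq => by rw [h n q hq (germ hq _), h n q hq (germ hq _)]⟩

theorem surj_of_subsingleton [Subsingleton M] : Surj I U M :=
  surj_of_forall_zero fun n q _ c => by
    obtain ⟨x, s, hs, hx⟩ := exists_frac q c
    haveI : Subsingleton (quotPow A I M n) := (Submodule.mkQ_surjective _).subsingleton
    exact smul_cancel q hs (by rw [hx, Subsingleton.elim x 0, map_zero, smul_zero])

/-- A module killed by `I`. -/
theorem surj_of_killed (h : ∀ a ∈ I, ∀ x : M, a • x = 0) : Surj I U M := by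
  intro y hy
  have hbot : ∀ n : ℕ, I ^ (n + 1) • (⊤ : Submodule A M) = ⊥ := fun n => by
    rw [eq_bot_iff, Submodule.smul_le]
    exact fun a ha x _ => h a (Ideal.pow_le_self (Nat.succ_ne_zero n) ha) x
  have hb : ∀ n : ℕ, Function.Bijective (quotPowπ A I M n) := fun n =>
    ⟨LinearMap.ker_eq_bot.1 ((Submodule.ker_mkQ _).trans (hbot n)), Submodule.mkQ_surjective _⟩
  let e := LinearEquiv.ofBijective (quotPowπ A I M 0) (hb 0)
  refine ⟨U, admissible_self, mp e.symm.toLinearMap U (y 0), fun n => ?_⟩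
  have htr : Function.Injective (tr I M (Nat.zero_le n)) := fun a b hab => by
    obtain ⟨a, rfl⟩ := (hb n).2 a
    obtain ⟨b, rfl⟩ := (hb n).2 b
    exact congrArg _ ((hb 0).1 hab)
  rw [r_self]
  refine mp_injective _ htr U ?_
  rw [tr_z y hy 0 n (Nat.zero_le n), ← mp_comp, ← mp_comp]
  rw [show (tr I M (Nat.zero_le n) ∘ₗ quotPowπ A I M n) ∘ₗ e.symm.toLinearMap = LinearMap.id from
    LinearMap.ext fun x => e.apply_symm_apply x, mp_id]

/-- A submodule of a module with surjective comparison. -/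
theorem surj_of_injective {M' : Type u} [AddCommGroup M'] [Module A M'] (f : M' →ₗ[A] M) (hf : Function.Injective f)
    (h : Surj I U M) : Surj I U M' := by
  intro y hy
  let g := (LinearMap.range f).mkQ
  have hg : Function.Surjective g := Submodule.mkQ_surjective _
  have hfg : LinearMap.range f = LinearMap.ker g := (Submodule.ker_mkQ _).symm
  have natt : ∀ n, quotMap I f n ∘ₗ quotPowTrans A I M' n = quotPowTrans A I M n ∘ₗ quotMap I f (n + 1) := fun n =>
    LinearMap.ext fun m => Submodule.Quotient.induction_on _ m fun x => rfl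
  obtain ⟨V, hV, s, hs⟩ := h (fun n => mp (quotMap I f n) U (y n)) fun n => by
    rw [← mp_comp, ← natt n, mp_comp, hy n]
  have hzero : ∀ n, quotMap I g n ∘ₗ quotMap I f n = 0 := fun n => LinearMap.ext fun m =>
    Submodule.Quotient.induction_on _ m fun z => (Submodule.Quotient.mk_eq_zero _).2 (by
      rw [show g (f z) = 0 from (Submodule.Quotient.mk_eq_zero _).2 (LinearMap.mem_range_self f z)]
      exact zero_mem _)
  obtain ⟨V', ⟨hV', hle⟩, hres⟩ := inj_of_finite I U (M := M ⧸ LinearMap.range f) V hV (mp g V s) fun n => by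
    rw [← mp_comp, show quotPowπ A I (M ⧸ LinearMap.range f) n ∘ₗ g = quotMap I g n ∘ₗ quotPowπ A I M n from rfl,
      mp_comp, ← hs n, ← mp_r, ← mp_comp, hzero n, mp_zero, map_zero]
  obtain ⟨x, hx⟩ := exists_mp_eq f g hf hfg V' (y := r M hle s) (by rw [← mp_r, hres])
  refine ⟨V', hV', x, fun n => ?_⟩
  let w : ∀ k, S (quotPow A I M' k) V' := fun k => r _ hV'.1 (y k) - mp (quotPowπ A I M' k) V' x
  have hw : ∀ k, mp (quotPowTrans A I M' k) V' (w (k + 1)) = w k := fun k => by
    simp only [w, map_sub]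
    rw [← mp_r, hy k, ← mp_comp]
    rfl
  have hw0 : ∀ k, mp (quotMap I f k) V' (w k) = 0 := fun k => by
    simp only [w, map_sub]
    rw [← mp_r, ← mp_comp, show quotMap I f k ∘ₗ quotPowπ A I M' k = quotPowπ A I M k ∘ₗ f from rfl, mp_comp, hx,
      ← mp_r, ← hs k, r_r, sub_self]
  have h0 := Formal2Chase7.eq_zero_of_map_eq_zero I f hf V' (fun k => (toS _ V').symm (w k))
    (fun k => (toS _ V').injective (by
      rw [toS_map, AddEquiv.apply_symm_apply, AddEquiv.apply_symm_apply, hw k]))
    (fun k => (toS _ V').injective (by rw [toS_map, AddEquiv.apply_symm_apply, hw0 k, map_zero])) n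
  have := congrArg (toS _ V') h0
  rw [AddEquiv.apply_symm_apply, map_zero] at this
  exact sub_eq_zero.1 this

theorem surj_pi (h : Surj I U M) : ∀ r, Surj I U (Fin r → M)
  | 0 => surj_of_subsingleton
  | r + 1 => surj_middle _ _ (LC.FiniteH1.pi_exact r).1 (LC.FiniteH1.pi_exact r).2.1
      (LC.FiniteH1.pi_exact r).2.2.linearMap_ker_eq.symm (inj_of_finite I U) h (surj_pi h r)

/-- **Dévissage.** -/
theorem surj_of_assoc
    (h : ∀ p ∈ associatedPrimes A M, ∀ (N : Type u) [AddCommGroup N] [Module A N] [Module.Finite A N],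
      (∀ a ∈ p, ∀ x : N, a • x = 0) → (∀ a, a ∉ p → IsSMulRegular N a) → Surj I U N) : Surj I U M := by
  suffices key : ∀ P : Submodule A M, associatedPrimes A (M ⧸ P) ⊆ associatedPrimes A M → Surj I U (M ⧸ P) from
    let e := Submodule.quotEquivOfEqBot (⊥ : Submodule A M) rfl
    surj_of_injective e.symm.toLinearMap e.symm.injective (key ⊥ (LinearEquiv.AssociatedPrimes.eq e).le)
  intro P
  induction P using IsNoetherian.induction with
  | _ P IH =>
    intro hP
    rcases subsingleton_or_nontrivial (M ⧸ P) with hs | hs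
    · exact surj_of_subsingleton
    obtain ⟨p, hp, hmax⟩ := (associatedPrimes.finite A (M ⧸ P)).exists_maximal (associatedPrimes.nonempty A (M ⧸ P))
    haveI := hp.isPrime
    let T : Submodule A (M ⧸ P) := Submodule.torsionBySet A (M ⧸ P) p
    have hmem : ∀ x, x ∈ T ↔ ∀ a ∈ p, a • x = 0 := fun x => by
      simp [T, Submodule.mem_torsionBySet_iff]
    have hreg : ∀ a, a ∉ p → IsSMulRegular T a := fun a ha => IsSMulRegular.of_right_eq_zero_of_smul fun (x : T) hx => by
      by_contra hx0
      have hne : (x : M ⧸ P) ≠ 0 := fun h => hx0 (by exact Subtype.ext h)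
      obtain ⟨q, hq, hle⟩ := exists_le_isAssociatedPrime_of_isNoetherianRing (R := A) (x : M ⧸ P) hne
      have h1 : p ≤ q := fun b hb => hle (Submodule.mem_colon_singleton.2
        ((Submodule.mem_bot A).2 ((hmem _).1 x.2 b hb)))
      exact ha (hmax hq h1 (hle (Submodule.mem_colon_singleton.2
        ((Submodule.mem_bot A).2 (congrArg Subtype.val hx)))))
    obtain ⟨-, x, hx⟩ := isAssociatedPrime_iff.1 hp
    have hxT : x ∈ T := (hmem x).2 fun a ha => (Submodule.mem_bot A).1 (Submodule.mem_colon_singleton.1 (hx.le ha))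
    have hx0 : x ≠ 0 := by
      rintro rfl
      exact ‹p.IsPrime›.ne_top (hx.trans Submodule.colon_singleton_zero)
    let P' : Submodule A M := T.comap P.mkQ
    have hPP' : P < P' := by
      obtain ⟨x', rfl⟩ := P.mkQ_surjective x
      refine lt_of_le_of_ne (fun z hz => by simp [P', (Submodule.Quotient.mk_eq_zero P).2 hz]) fun h => ?_
      exact hx0 ((Submodule.Quotient.mk_eq_zero P).2 (h.symm ▸ (show x' ∈ P' from hxT)))
    have hmap : P'.map P.mkQ = T := Submodule.map_comap_eq_of_surjective P.mkQ_surjective T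
    let e : ((M ⧸ P) ⧸ T) ≃ₗ[A] (M ⧸ P') :=
      (Submodule.quotEquivOfEq _ _ hmap.symm).trans (Submodule.quotientQuotientEquivQuotient P P' hPP'.le)
    have hass : associatedPrimes A (M ⧸ P') ⊆ associatedPrimes A M := by
      obtain ⟨r, a, ha⟩ := Submodule.fg_iff_exists_fin_generating_family.1 (IsNoetherian.noetherian p)
      let φ : (M ⧸ P) →ₗ[A] (Fin r → M ⧸ P) := LinearMap.pi fun i => LinearMap.lsmul A _ (a i)
      have hφ : T = LinearMap.ker φ := by
        ext z
        refine ⟨fun hz => funext fun i => (hmem z).1 hz (a i) (ha ▸ Submodule.subset_span ⟨i, rfl⟩), fun hz => ?_⟩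
        have : p ≤ LinearMap.ker (LinearMap.toSpanSingleton A (M ⧸ P) z) := ha.symm.le.trans
          (Submodule.span_le.2 (Set.range_subset_iff.2 fun i => congrFun hz i))
        exact (hmem z).2 fun b hb => this hb
      rw [← LinearEquiv.AssociatedPrimes.eq e]
      exact (associatedPrimes.subset_of_injective
        (LinearMap.ker_eq_bot.1 (Submodule.ker_liftQ_eq_bot' T φ hφ))).trans
        ((LC.FiniteH1.associatedPrimes_pi_subset r).trans hP)
    refine surj_middle T.subtype T.mkQ T.injective_subtype T.mkQ_surjective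
      (by rw [Submodule.range_subtype, Submodule.ker_mkQ]) (inj_of_finite I U)
      (h p (hP hp) T (fun b hb z => Subtype.ext ((hmem _).1 z.2 b hb)) hreg)
      (surj_of_injective e.toLinearMap e.injective (IH P' hPP' hass))

/-- **Surjectivity from the colimit.** -/
theorem surj_of_dim [IsAdicComplete I A] (𝔞 : Ideal A) (hI : I ≤ 𝔞) (hω : ∃ ω : Dual.D A, Dual.IsDualizing A ω)
    (d : ℕ) (hd : LocCoh.CdLE A I d)
    (h₂ : ∀ p ∈ associatedPrimes A M, ¬ 𝔞 ≤ p → ¬ I ≤ p →
      (∃ r : Ideal A, r.IsPrime ∧ p ≤ r ∧ I ≤ r ∧ ¬ 𝔞 ≤ r) →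
        ∀ (q : Ideal A) [q.IsPrime], p ≤ q → 𝔞 ≤ q → ((d + 1 : ℕ) : WithBot ℕ∞) < Formal2.dimBetween A p q) :
    Surj I (LocCoh.puncturedOpen A 𝔞) M := by
  refine surj_of_assoc fun p hp N _ _ _ hkill hreg => ?_
  haveI := hp.isPrime
  by_cases hIp : I ≤ p
  · exact surj_of_killed fun a ha => hkill a (hIp ha)
  by_cases hr : ∃ r : Ideal A, r.IsPrime ∧ p ≤ r ∧ I ≤ r ∧ ¬ 𝔞 ≤ r
  · obtain ⟨K, _, _, _, hemb, hcond⟩ := exists_model hω p d
    obtain ⟨k, f, hf⟩ := hemb N hkill hreg
    refine surj_of_injective f hf (surj_pi ?_ k)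
    refine surj_of_cond hω d hd fun q hq => ?_
    have hq' : 𝔞 ≤ q.asIdeal := not_not.1 hq
    exact ⟨hI.trans hq', hcond q fun hpq => h₂ p hp (fun h => hIp (hI.trans h)) hIp hr q.asIdeal hpq hq'⟩
  · refine surj_of_forall_zero fun n q hq c => ?_
    obtain ⟨x, s, hs, hx⟩ := exists_frac q c
    refine smul_cancel q hs ?_
    rw [hx, smul_zero]
    obtain ⟨x, rfl⟩ := Submodule.Quotient.mk_surjective _ x
    refine (IsLocalizedModule.eq_zero_iff q.asIdeal.primeCompl _).2 ?_
    by_cases hpq : p ≤ q.asIdeal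
    · obtain ⟨a, ha, haq⟩ := Set.not_subset.1 fun h : I ≤ q.asIdeal => hr ⟨_, q.isPrime, hpq, h, hq⟩
      refine ⟨⟨a ^ (n + 1), fun h => haq (q.isPrime.mem_of_pow_mem _ h)⟩, ?_⟩
      exact (Submodule.Quotient.mk_eq_zero _).2 (Submodule.smul_mem_smul (Ideal.pow_mem_pow ha _) trivial)
    · obtain ⟨a, ha, haq⟩ := Set.not_subset.1 hpq
      refine ⟨⟨a, haq⟩, ?_⟩
      show a • (Submodule.Quotient.mk x : quotPow A I N n) = 0
      rw [← Submodule.Quotient.mk_smul, hkill a ha, Submodule.Quotient.mk_zero]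

end GrothLib.FSecDual7
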