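import Groth.Agent.Lib.FSecDual7.Germ
import Groth.Agent.Lib.FSecDual7.LocalExt
import Groth.Agent.Lib.ColimSec7.Main
import Groth.Agent.Lib.ExtCech.Compare
import Groth.Agent.Lib.LC.ExtVanish
import Groth.Agent.Lib.Depth.Basic
import Mathlib.RingTheory.Localization.Module

/-!
# Extending a family of germs across one point
-/

set_option autoImplicit false
set_option linter.style.haveILetI false
set_option linter.unusedSectionVars false

universe u

open CategoryTheory AlgebraicGeometry Opposite TopologicalSpace Formal2 GrothLib.ColimSec7 GrothLib.ExtCech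

noncomputable section

namespace GrothLib.FSecDual7

variable {A : Type u} [CommRing A] [IsNoetherianRing A] (q : PrimeSpectrum A)

/-- The local ring. -/
abbrev Rat' : Type u := Localization.AtPrime q.asIdeal

variable {M N : Type u} [AddCommGroup M] [Module A M] [AddCommGroup N] [Module A N]

/-- Functoriality of the localisation, over the local ring. -/
def lmR (φ : M →ₗ[A] N) : L q M →ₗ[Rat' q] L q N :=
  (lm q φ).extendScalarsOfIsLocalization q.asIdeal.primeCompl (Rat' q)

theorem lmR_apply (φ : M →ₗ[A] N) (u : L q M) : lmR q φ u = lm q φ u := rfl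

theorem exists_smul_eq (r : Rat' q) : ∃ (a : A) (s : A), s ∉ q.asIdeal ∧
    algebraMap A (Rat' q) s * r = algebraMap A (Rat' q) a := by
  obtain ⟨⟨a, s⟩, hs⟩ := IsLocalization.surj q.asIdeal.primeCompl r
  exact ⟨a, s.1, s.2, by rw [mul_comm]; exact hs⟩

variable (fs : List (Rat' q)) (hfs : Ideal.span {x | x ∈ fs} = IsLocalRing.maximalIdeal (Rat' q))

include hfs in
/-- An element whose germs at the strict generisations vanish is torsion. -/
theorem isListTorsion_of_germs (u : L q N) (h : ∀ (p : PrimeSpectrum A) (hp : p < q), loc hp.le N u = 0) :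
    IsListTorsion fs u := by
  intro f hf
  suffices hr : f ∈ (Ideal.torsionOf (Rat' q) (L q N) u).radical by
    obtain ⟨k, hk⟩ := hr
    exact ⟨k, hk⟩
  rw [Ideal.radical_eq_sInf]
  refine Submodule.mem_sInf.2 fun P hP => ?_
  obtain ⟨hle, hprime⟩ := hP
  have hPm : P = IsLocalRing.maximalIdeal (Rat' q) := by
    by_contra hne
    let p : PrimeSpectrum A := ⟨Ideal.comap (algebraMap A (Rat' q)) P, Ideal.IsPrime.comap _⟩
    have hpq : p < q := by
      refine lt_of_le_of_ne (fun a ha => ?_) fun he => hne ?_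
      · by_contra haq
        exact hprime.ne_top (Ideal.eq_top_of_isUnit_mem _ ha (IsLocalization.map_units (Rat' q) (⟨a, haq⟩ : q.asIdeal.primeCompl)))
      · refine le_antisymm (IsLocalRing.le_maximalIdeal hprime.ne_top) ?_
        rw [← Localization.AtPrime.map_eq_maximalIdeal, Ideal.map_le_iff_le_comap]
        exact (congrArg PrimeSpectrum.asIdeal he).ge
    obtain ⟨c, s, hs, hu⟩ := exists_frac q u
    have h0 := congrArg (s • ·) (h p hpq)
    simp only [smul_zero] at h0
    rw [← map_smul, hu, loc_ι] at h0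
    obtain ⟨⟨b, hb⟩, hbc⟩ := (IsLocalizedModule.eq_zero_iff p.asIdeal.primeCompl _).1 h0
    refine hb (hle (show algebraMap A (Rat' q) b • u = 0 from ?_))
    rw [algebraMap_smul]
    refine smul_cancel q hs ?_
    rw [smul_comm, hu, ← map_smul, show b • c = 0 from hbc, map_zero, smul_zero]
  rw [hPm, ← hfs]
  exact Ideal.subset_span hf

include hfs in
/-- **Uniqueness step.** -/
theorem kill_step (ψ : M →ₗ[A] N)
    (h0 : HomologicalComplex.homologyMap (cxMap (ModuleCat.ofHom (lmR q ψ)) fs) 0 = 0)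
    (u : L q M) (h : ∀ (p : PrimeSpectrum A) (hp : p < q), loc hp.le M u = 0) : lm q ψ u = 0 :=
  map_eq_zero_of_torsion fs (ModuleCat.ofHom (lmR q ψ)) h0 u (isListTorsion_of_germs q fs hfs u h)

variable [Module.Finite A M] [Module.Finite A N]

include hfs in
/-- **Existence step.** -/
theorem extend_step (ψ : M →ₗ[A] N)
    (h1 : HomologicalComplex.homologyMap (cxMap (ModuleCat.ofHom (lmR q ψ)) fs) 1 = 0)
    (x : ∀ p : PrimeSpectrum A, p < q → L p M)
    (hx : ∀ (p p' : PrimeSpectrum A) (h : p ≤ p') (hp' : p' < q), loc h M (x p' hp') = x p (h.trans_lt hp')) :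
    ∃ u : L q N, ∀ (p : PrimeSpectrum A) (hp : p < q), loc hp.le N u = lm p ψ (x p hp) := by
  classical
  obtain ⟨W₁, hW₁, w₁, hw₁⟩ := exists_section_of_germs {p : PrimeSpectrum A | p < q}
    (fun p p' h hp' => h.trans_lt hp') x hx
  let W : (Spec (CommRingCat.of A)).Opens := W₁ ⊓ LocCoh.puncturedOpen A q.asIdeal
  have hW : ∀ p : PrimeSpectrum A, p < q → p ∈ W := fun p hp => ⟨hW₁ p hp, fun h => hp.not_ge h⟩
  have hlt : ∀ p : PrimeSpectrum A, p ≤ q → p ∈ W → p < q := fun p hp hpW =>
    lt_of_le_of_ne hp fun he => hpW.2 (he ▸ le_refl q)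
  let w : S M W := r M (inf_le_left : W ≤ W₁) w₁
  have hw : ∀ (p : PrimeSpectrum A) (hp : p < q), germ (hW p hp) w = x p hp := fun p hp => by
    rw [germ_r]; exact hw₁ p hp
  obtain ⟨l, a, haW, hcov⟩ := exists_basic_cover W
  -- the comparison maps
  let j' : L q M →ₗ[Rat' q] L q (S M W) := lmR q (t M W)
  let j : L q N →ₗ[Rat' q] L q (S N W) := lmR q (t N W)
  let Ψ : L q (S M W) →ₗ[Rat' q] L q (S N W) := lmR q (mp ψ W)
  have hker : ∀ u, j' u = 0 → IsListTorsion fs u := fun u hu =>
    isListTorsion_of_germs q fs hfs u fun p hp => (jmap_bijective (hW p hp)).1 (by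
      rw [map_zero]
      show lm p (t M W) (loc hp.le M u) = 0
      rw [← loc_lm, show lm q (t M W) u = 0 from hu, map_zero])
  have hG : ∀ g : L q (S N W), IsListTorsion fs g → g = 0 := by
    intro g hg
    obtain ⟨z, s, hs, hz⟩ := exists_frac q g
    have hgerm : ∀ (p : PrimeSpectrum A) (hp : p < q), germ (hW p hp) z = 0 := by
      intro p hp
      obtain ⟨b, hbq, hbp⟩ := Set.not_subset.1 hp.not_ge
      have hbm : algebraMap A (Rat' q) b ∈ (Ideal.torsionOf (Rat' q) _ g).radical := by
        refine (?_ : IsLocalRing.maximalIdeal (Rat' q) ≤ _) ?_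
        · rw [← hfs]
          exact Ideal.span_le.2 fun f hf => (hg f hf)
        · rw [← Localization.AtPrime.map_eq_maximalIdeal]
          exact Ideal.mem_map_of_mem _ hbq
      obtain ⟨k, hk⟩ := hbm
      have h2 : b ^ k • g = 0 := by
        rw [← algebraMap_smul (Rat' q) (b ^ k) g, map_pow]
        exact hk
      refine (jmap_bijective (hW p hp)).1 ?_
      rw [jmap_germ, map_zero]
      refine smul_cancel p (s := b ^ k) (fun h => hbp (p.isPrime.mem_of_pow_mem k h)) ?_
      rw [smul_zero, ← map_smul, ← loc_ι hp.le (b ^ k • z), map_smul, ← hz, smul_comm, h2, smul_zero, map_zero]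
    have hc : ∀ i, ∃ c : A, c ∉ q.asIdeal ∧ c • r N (haW i) z = 0 := by
      intro i
      obtain ⟨k, m, hm⟩ := exists_pow_smul_eq (haW i) z
      have hrad : algebraMap A (Rat' q) (a i) ∈ (Ideal.torsionOf (Rat' q) _ (ι q N m)).radical := by
        rw [Ideal.radical_eq_sInf]
        refine Submodule.mem_sInf.2 fun P hP => ?_
        obtain ⟨hle, hprime⟩ := hP
        by_contra haP
        let p : PrimeSpectrum A := ⟨Ideal.comap (algebraMap A (Rat' q)) P, Ideal.IsPrime.comap _⟩
        have hpq : p ≤ q := fun b hb => by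
          by_contra hbq
          exact hprime.ne_top (Ideal.eq_top_of_isUnit_mem _ hb (IsLocalization.map_units (Rat' q) (⟨b, hbq⟩ : q.asIdeal.primeCompl)))
        have hpa : p ∈ D (a i) := haP
        have hp : p < q := hlt p hpq (haW i hpa)
        have h3 : ι p N m = 0 := by
          rw [← germ_t (hW p hp), ← hm, map_smul, hgerm p hp, smul_zero]
        obtain ⟨⟨b, hb⟩, hbm⟩ := (IsLocalizedModule.eq_zero_iff p.asIdeal.primeCompl _).1 h3
        refine hb (hle (show algebraMap A (Rat' q) b • ι q N m = 0 from ?_))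
        rw [algebraMap_smul, ← map_smul, show b • m = 0 from hbm, map_zero]
      obtain ⟨e, he⟩ := hrad
      have he' : a i ^ e • ι q N m = 0 := by
        rw [← algebraMap_smul (Rat' q) (a i ^ e), map_pow]
        exact he
      rw [← map_smul] at he'
      obtain ⟨⟨c, hcq⟩, hc⟩ := (IsLocalizedModule.eq_zero_iff q.asIdeal.primeCompl _).1 he'
      refine ⟨c, hcq, smul_injective (a := a i) le_rfl (e + k) ?_⟩
      rw [smul_zero, smul_comm, pow_add, mul_smul, ← map_smul, hm, r_t, ← map_smul, ← map_smul,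
        show c • a i ^ e • m = 0 from hc, map_zero]
    choose c hcq hcz using hc
    refine smul_cancel q hs ?_
    rw [hz, smul_zero]
    have hC : (∏ i, c i) ∉ q.asIdeal := fun h => by
      obtain ⟨i, -, hi⟩ := (q.isPrime.prod_mem_iff).1 h
      exact hcq i hi
    refine (IsLocalizedModule.eq_zero_iff q.asIdeal.primeCompl _).2 ⟨⟨∏ i, c i, hC⟩, ?_⟩
    show (∏ i, c i) • z = 0
    refine eq_of_locally (U := fun i : ULift.{u} (Fin l) => D (a i.down)) (fun i => haW i.down) (fun p hp => ?_) fun i => ?_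
    · obtain ⟨i, hi⟩ := hcov p hp
      exact Opens.mem_iSup.2 ⟨⟨i⟩, hi⟩
    · rw [map_smul, map_zero, ← Finset.mul_prod_erase Finset.univ c (Finset.mem_univ i.down), mul_comm, mul_smul,
        hcz, smul_zero]
  have hy : ∀ f ∈ fs, ∃ k : ℕ, f ^ k • ι q (S M W) w ∈ LinearMap.range j' := by
    intro f hf
    suffices hr : f ∈ Ideal.radical (Submodule.comap (LinearMap.toSpanSingleton (Rat' q) _ (ι q (S M W) w))
        (LinearMap.range j')) by
      obtain ⟨k, hk⟩ := hr
      exact ⟨k, hk⟩
    rw [Ideal.radical_eq_sInf]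
    refine Submodule.mem_sInf.2 fun P hP => ?_
    obtain ⟨hle, hprime⟩ := hP
    have hPm : P = IsLocalRing.maximalIdeal (Rat' q) := by
      by_contra hne
      let p : PrimeSpectrum A := ⟨Ideal.comap (algebraMap A (Rat' q)) P, Ideal.IsPrime.comap _⟩
      have hpq : p < q := by
        refine lt_of_le_of_ne (fun b hb => ?_) fun he => hne ?_
        · by_contra hbq
          exact hprime.ne_top (Ideal.eq_top_of_isUnit_mem _ hb (IsLocalization.map_units (Rat' q) (⟨b, hbq⟩ : q.asIdeal.primeCompl)))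
        · refine le_antisymm (IsLocalRing.le_maximalIdeal hprime.ne_top) ?_
          rw [← Localization.AtPrime.map_eq_maximalIdeal, Ideal.map_le_iff_le_comap]
          exact (congrArg PrimeSpectrum.asIdeal he).ge
      obtain ⟨i, hi⟩ := hcov p (hW p hpq)
      obtain ⟨k, m, hm⟩ := exists_pow_smul_eq (haW i) w
      refine hi (p.isPrime.mem_of_pow_mem k (hle ⟨ι q M m, ?_⟩))
      show lm q (t M W) (ι q M m) = algebraMap A (Rat' q) (a i ^ k) • ι q (S M W) w
      rw [lm_ι, ← hm, algebraMap_smul, map_smul]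
    rw [hPm, ← hfs]
    exact Ideal.subset_span hf
  obtain ⟨u, hu⟩ := mem_range_of_pow_smul fs (ModuleCat.ofHom (lmR q ψ)) h1 j' j Ψ
    (fun u => jmap_nat ψ W q u) hker hG _ hy
  refine ⟨u, fun p hp => ?_⟩
  rw [← hw p hp, ← germ_mp]
  refine (jmap_bijective (hW p hp)).1 ?_
  rw [jmap_germ, jmap, ← loc_lm, show lm q (t N W) u = lm q (mp ψ W) (ι q (S M W) w) from hu, lm_ι, loc_ι]

omit [Module.Finite A M] in
/-- `H¹` of the Čech complex vanishes in depth two. -/
theorem homologyMap_id_eq_zero {R : Type u} [CommRing R] [IsNoetherianRing R] [IsLocalRing R] (gs : List R)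
    (hgs : Ideal.span {x | x ∈ gs} = IsLocalRing.maximalIdeal R) (P : ModuleCat.{u} R) [Module.Finite R P]
    (hdepth : (2 : ℕ∞) ≤ LocCoh.depth R P) (i : ℕ) (hi : i < 2) :
    HomologicalComplex.homologyMap (cxMap (𝟙 P) gs) (i : ℤ) = 0 := by
  have h := (GrothLib.LC.forall_subsingleton_H_iff (IsLocalRing.maximalIdeal R) (G := P) 2).2
    ((GrothLib.Depth.le_idealDepth_iff_ext (IsLocalRing.maximalIdeal R) (M := P) 2).1 hdepth) i hi
  obtain ⟨g⟩ := GrothLib.ExtCech.nonempty_extCechH_equiv gs i P
  rw [hgs] at g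
  haveI := g.toEquiv.subsingleton
  exact (ModuleCat.isZero_of_subsingleton (DerCA.extCechH gs P (i : ℤ))).eq_of_src _ _

end GrothLib.FSecDual7
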